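import Cfsg.Agent.S4033
import Cfsg.Agent.S0564
import Cfsg.Agent.S0144
import Cfsg.Agent.S0028
import Cfsg.Agent.OddOrderLocal.RankTwoFitting
import Cfsg.Agent.Lib.Cores
import Cfsg.Agent.H4.Small_m3
import Cfsg.Agent.S3214
import Cfsg.Agent.S3188
import Cfsg.Agent.S1311
import Cfsg.Agent.S0252
import Cfsg.Agent.S0254
import Cfsg.Agent.S1152
import Cfsg.Agent.S1157
import Cfsg.Agent.Classification.NGroupExclude
import Cfsg.Agent.LieClassical.SLTwoThree
import Cfsg.Agent.ChevalleyStructure.FieldIso
import Cfsg.Agent.PLocal.SubnormalCore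
import Cfsg.Agent.Transfer.NormalPComplement
import Cfsg.Agent.OddHalf.LieOddFam
import Cfsg.Agent.OddHalf.Known
import Cfsg.Agent.OddHalf.LongSL.Rk
import Cfsg.Agent.GH.AltOut
import Cfsg.Agent.CTwoTab.He
import Cfsg.Agent.SylowL.Compare_m3
import Mathlib
import Cfsg.Agent.H322.Tri.Suz
import Cfsg.Agent.OddCyclic.ClaimC.SzIso
import Cfsg.Agent.S0333
import Cfsg.Agent.H307.Heads
import Cfsg.Agent.H805.ASeven
import Cfsg.Agent.TwoFusion.SLTwoFacts
import Cfsg.Agent.S0253
import Cfsg.Agent.ClassicalGeometry.PSL2Basic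
import Cfsg.Agent.H426.SL2Unrec
import Cfsg.Agent.Lib.MatLit
import Cfsg.Agent.FastGrp
import Cfsg.Agent.Prune
set_option linter.all false
prune_inst 0x7ff8bcfb8ff8addedfff7e7fffdddffc39d05fffbfdff94bffe86bff0fdf030209e5fb8d89e010fe1ef6629410b87853f9ffceffea6bdc7ffffd5ff45ffbee0fb5e7b908519e8cb40fbc0fff63f06f8e7f3fffffffffffffffffffffffffffbefffdffffffff
open scoped Cfsg.Agent.FastGrp

-- part: H178/CType/Low
section
/-!
# Groups in which all non-maximal centralizers have the same order

`Good G m`: whenever `C(x) < C(y)` with `y ≠ 1`, the order of `C(x)` is `m`. (Finite groups with few class sizes have this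
property.)
-/

set_option autoImplicit false

namespace Cfsg.Agent.H178.CType

open Subgroup Cfsg.Agent.H503.TwoReg Cfsg.Agent.H503

section basic

variable {G : Type*} [Group G]

/-- The centralizer of an element. -/
abbrev cz (x : G) : Subgroup G := centralizer ({x} : Set G)

theorem mem_cz {x g : G} : g ∈ cz x ↔ g * x = x * g := mem_centralizer_singleton_iff

/-- the non-maximal centralizers have order `m` -/
def Good (G : Type*) [Group G] (m : ℕ) : Prop :=
  ∀ x y : G, y ≠ 1 → cz x < cz y → Nat.card (cz x) = m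

theorem cz_mul {x w : G} (hc : Commute x w) (hcop : (orderOf x).Coprime (orderOf w)) :
    cz (x * w) = cz x ⊓ cz w := by
  apply le_antisymm
  · exact le_inf (centralizer_le_of_mem_zpowers (left_mem_zpowers_mul hc hcop))
      (centralizer_le_of_mem_zpowers (right_mem_zpowers_mul hc hcop))
  · rintro g ⟨h1, h2⟩
    have h1' : Commute g x := mem_cz.mp h1
    have h2' : Commute g w := mem_cz.mp h2
    exact mem_cz.mpr (h1'.mul_right h2')

theorem cz_le_sq (x : G) : cz x ≤ cz (x * x) := by
  intro g hg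
  have h : Commute g x := mem_cz.mp hg
  exact mem_cz.mpr (h.mul_right h)

theorem coprime_two_of_pow {x a : G} {k : ℕ} (hx : x ^ 2 ^ k = 1) (ha : (orderOf a).Coprime 2) :
    (orderOf x).Coprime (orderOf a) :=
  Nat.Coprime.coprime_dvd_left (orderOf_dvd_of_pow_eq_one hx) (Nat.Coprime.pow_left k ha.symm)

/-- In a group with property `Good`, the elements of order prime to `o(x)` in a small centralizer `C(x)` are central in
it. -/
theorem Good.low_central [Finite G] {m : ℕ} (h : Good G m) {x w : G} (hx : x ≠ 1) (hm : Nat.card (cz x) = m)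
    (hw : w ∈ cz x) (hcop : (orderOf x).Coprime (orderOf w)) : cz x ≤ cz w := by
  have h1 : cz (x * w) = cz x ⊓ cz w := cz_mul (mem_cz.mp hw).symm hcop
  by_contra hle
  have h2 : cz (x * w) < cz x := by
    rw [h1]
    exact lt_of_le_of_ne inf_le_left (fun he => hle (inf_eq_left.mp he))
  have h3 := h _ _ hx h2
  have h4 : cz (x * w) = cz x := Subgroup.eq_of_le_of_card_ge h2.le (by rw [h3, hm])
  exact h2.ne h4

theorem Good.card_mul [Finite G] {m : ℕ} (h : Good G m) {y w : G} (hy : y ≠ 1) (hw : w ∈ cz y)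
    (hcop : (orderOf y).Coprime (orderOf w)) (hn : ¬ cz y ≤ cz w) : Nat.card (cz (y * w)) = m := by
  have h1 : cz (y * w) = cz y ⊓ cz w := cz_mul (mem_cz.mp hw).symm hcop
  refine h _ _ hy ?_
  rw [h1]
  exact lt_of_le_of_ne inf_le_left (fun he => hn (inf_eq_left.mp he))

end basic

section solvable

/-- A finite group with an abelian subgroup of `p`-power index and order prime to `p` is solvable. -/
theorem solvable_of_compl {C : Type*} [Group C] [Finite C] {p : ℕ} (hp : p.Prime) (H : Subgroup C)
    (hH : IsMulCommutative H) (h1 : ¬ p ∣ Nat.card H) {k : ℕ} (h2 : H.index = p ^ k) : Group.IsSolvable C := by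
  have := Fact.mk hp
  let P : Sylow p C := default
  have hPn : Group.IsNilpotent (P : Subgroup C) := P.isPGroup'.isNilpotent
  have hHn : Group.IsNilpotent H := by
    let _ : CommGroup H := { (inferInstance : Group H) with mul_comm := fun a b => hH.is_comm.comm a b }
    exact CommGroup.isNilpotent (G := H)
  have hcard : Nat.card (P : Subgroup C) = p ^ k := by
    have h3 := P.card_eq_multiplicity
    rw [h3]
    congr 1
    have h4 := H.card_mul_index
    rw [h2] at h4
    rw [← h4, Nat.factorization_mul Nat.card_pos.ne' (pow_ne_zero _ hp.ne_zero), Nat.factorization_pow]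
    simp only [Nat.factorization_eq_zero_of_not_dvd h1, hp.factorization_self, _root_.Finsupp.coe_add, _root_.Finsupp.coe_smul, _root_.nsmul_eq_mul, _root_.Pi.add_apply, _root_.Pi.mul_apply, _root_.Pi.natCast_apply, _root_.Nat.cast_id, _root_.mul_one, _root_.zero_add]
  have hcop : (Nat.card H).Coprime (Nat.card (P : Subgroup C)) := by
    rw [hcard]
    exact Nat.Coprime.pow_right _ (Nat.Coprime.symm ((Nat.Prime.coprime_iff_not_dvd hp).mpr h1))
  have hcompl : IsComplement' H (P : Subgroup C) := by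
    apply isComplement'_of_coprime _ hcop
    rw [hcard, ← h2]
    exact H.card_mul_index
  refine S0564.result H (P : Subgroup C) hHn hPn fun g => ?_
  obtain ⟨⟨a, b⟩, hab⟩ := hcompl.surjective g
  exact ⟨a, a.2, b, b.2, hab.symm⟩

/-- If all the non-central elements of order prime to `p` have the same class size then the group is solvable. -/
theorem solvable_of_HH {C : Type*} [Group C] [Finite C] {p m : ℕ} (hp : p.Prime) (h : HH C p m) :
    Group.IsSolvable C := by
  have := Fact.mk hp
  by_cases hex : ∃ x : C, PR p x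
  · have h2 : Set.ncard (Set.range fun x : {x : C // (orderOf x).Coprime p} =>
        (ConjClasses.mk (x : C)).carrier.ncard) = 2 := by
      obtain ⟨x, hx⟩ := hex
      have hm1 : (1 : ℕ) ≠ m := by
        intro he
        apply hx.2
        rw [mem_center_iff_centralizer, ← index_eq_one, h x hx, ← he]
      have hset : (Set.range fun x : {x : C // (orderOf x).Coprime p} =>
        (ConjClasses.mk (x : C)).carrier.ncard) = {1, m} := by
        apply le_antisymm
        · rintro _ ⟨⟨y, hy⟩, rfl⟩
          show (ConjClasses.mk y).carrier.ncard ∈ ({1, m} : Set ℕ)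
          rw [ncard_class]
          by_cases hyc : y ∈ center C
          · left
            rw [mem_center_iff_centralizer.mp hyc, index_top]
          · right
            exact h y ⟨hy, hyc⟩
        · rintro n (rfl | hn)
          · refine ⟨⟨1, by simp⟩, ?_⟩
            show (ConjClasses.mk (1 : C)).carrier.ncard = 1
            rw [ncard_class, mem_center_iff_centralizer.mp (one_mem _), index_top]
          · rw [Set.mem_singleton_iff] at hn
            subst hn
            refine ⟨⟨x, hx.1⟩, ?_⟩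
            show (ConjClasses.mk x).carrier.ncard = _
            rw [ncard_class, h x hx]
      rw [hset, Set.ncard_pair hm1]
    rcases S4033.result hp h2 with ⟨H, hH, h3, k, h4⟩ | ⟨q, hq, P, Q, A, hqp, hA, hcard, hn, -, hsup⟩
    · exact solvable_of_compl hp H hH h3 h4
    · have := hn
      have hs1 : Group.IsSolvable ↥((P : Subgroup C) ⊔ (Q : Subgroup C)) := by
        obtain ⟨a, ha⟩ := P.isPGroup'.exists_card_eq
        obtain ⟨b, hb⟩ := Q.isPGroup'.exists_card_eq
        exact S0144.result p q a b hp hq.out (by rw [hcard, ha, hb])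
      have hs2 : Group.IsSolvable (C ⧸ ((P : Subgroup C) ⊔ (Q : Subgroup C))) := by
        have hcomm : ∀ a b : C ⧸ ((P : Subgroup C) ⊔ (Q : Subgroup C)), a * b = b * a := by
          have key : ∀ a : C, ∃ c ∈ center C, (QuotientGroup.mk a : C ⧸ ((P : Subgroup C) ⊔ (Q : Subgroup C))) =
              QuotientGroup.mk c := by
            intro a
            have ha : a ∈ ((P : Subgroup C) ⊔ (Q : Subgroup C)) ⊔ A := by rw [hsup]; trivial
            obtain ⟨u, hu, c, hc, rfl⟩ := mem_sup_of_normal_left.mp ha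
            refine ⟨c, hA hc, ?_⟩
            rw [QuotientGroup.eq]
            have : (u * c)⁻¹ * c = c⁻¹ * u⁻¹ * c⁻¹⁻¹ := by group
            rw [this]
            exact hn.conj_mem _ (inv_mem hu) _
          intro a b
          obtain ⟨a, rfl⟩ := QuotientGroup.mk_surjective a
          obtain ⟨b, rfl⟩ := QuotientGroup.mk_surjective b
          obtain ⟨c, hc, hac⟩ := key a
          rw [hac, ← QuotientGroup.mk_mul, ← QuotientGroup.mk_mul, mem_center_iff.mp hc b]
        exact Group.isSolvable_of_comm hcomm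
      exact Group.isSolvable_of_ker_le_range (((P : Subgroup C) ⊔ (Q : Subgroup C)).subtype)
        (QuotientGroup.mk' ((P : Subgroup C) ⊔ (Q : Subgroup C))) (by rw [QuotientGroup.ker_mk', range_subtype])
  · -- the group modulo its centre is a `p`-group
    push Not at hex
    have hcen : ∀ x : C, (orderOf x).Coprime p → x ∈ center C := by
      intro x hx
      by_contra hc
      exact hex x ⟨hx, hc⟩
    have hpq : IsPGroup p (C ⧸ center C) := by
      intro x
      obtain ⟨x, rfl⟩ := QuotientGroup.mk_surjective x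
      -- `x ^ (p-part)` has order prime to `p`
      refine ⟨(orderOf x).factorization p, ?_⟩
      rw [← QuotientGroup.mk_pow, QuotientGroup.eq_one_iff]
      apply hcen
      have h0 : orderOf x ≠ 0 := (orderOf_pos x).ne'
      rw [orderOf_pow_of_dvd (pow_ne_zero _ hp.ne_zero) (Nat.ordProj_dvd _ _)]
      exact (Nat.coprime_ordCompl hp h0).symm
    have hn : Group.IsNilpotent (C ⧸ center C) := hpq.isNilpotent
    have hs2 : Group.IsSolvable (C ⧸ center C) := inferInstance
    have hs1 : Group.IsSolvable (center C) :=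
      Group.isSolvable_of_comm fun a b => Subtype.ext (mem_center_iff.mp b.2 a)
    exact Group.isSolvable_of_ker_le_range (center C).subtype
        (QuotientGroup.mk' (center C)) (by rw [QuotientGroup.ker_mk', range_subtype])

theorem card_cz_subgroup {G : Type*} [Group G] (H : Subgroup G) (w : H) :
    Nat.card (centralizer ({w} : Set H)) = Nat.card ↥(H ⊓ cz (w : G)) := by
  have h1 : (centralizer ({w} : Set H)).map H.subtype = H ⊓ cz (w : G) := by
    ext g
    constructor
    · rintro ⟨g, hg, rfl⟩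
      exact ⟨g.2, mem_cz.mpr (congrArg Subtype.val (mem_centralizer_singleton_iff.mp hg))⟩
    · rintro ⟨hg, hgw⟩
      refine ⟨⟨g, hg⟩, ?_, rfl⟩
      rw [SetLike.mem_coe, mem_centralizer_singleton_iff]
      exact Subtype.ext (mem_cz.mp hgw)
  rw [← h1, Nat.card_congr ((centralizer ({w} : Set H)).equivMapOfInjective H.subtype (subtype_injective _)).toEquiv]

theorem mem_center_cz {G : Type*} [Group G] {y : G} (w : cz y) : w ∈ center (cz y) ↔ cz y ≤ cz (w : G) := by
  rw [mem_center_iff]
  constructor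
  · intro h g hg
    rw [mem_cz]
    exact congrArg Subtype.val (h ⟨g, hg⟩)
  · intro h g
    exact Subtype.ext (mem_cz.mp (h g.2))

theorem Good.solvable {G : Type*} [Group G] [Finite G] {m : ℕ} (h : Good G m) {p : ℕ} (hp : p.Prime) {y : G}
    (hy : y ≠ 1) {k : ℕ} (hk : y ^ p ^ k = 1) : Group.IsSolvable (cz y) := by
  refine solvable_of_HH (m := Nat.card (cz y) / m) hp ?_
  rintro w ⟨hwp, hwc⟩
  rw [mem_center_cz] at hwc
  rw [← orderOf_coe] at hwp
  have hcop : (orderOf y).Coprime (orderOf (w : G)) :=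
    Nat.Coprime.coprime_dvd_left (orderOf_dvd_of_pow_eq_one hk) (Nat.Coprime.pow_left k hwp.symm)
  have h1 := h.card_mul hy w.2 hcop hwc
  rw [cz_mul (mem_cz.mp w.2).symm hcop, ← card_cz_subgroup] at h1
  have h2 := (centralizer ({w} : Set (cz y))).card_mul_index
  have hm : 0 < m := by rw [← h1]; exact Nat.card_pos
  rw [h1] at h2
  rw [← h2, Nat.mul_div_cancel_left _ hm]

end solvable

end Cfsg.Agent.H178.CType
end

-- part: H178/CType/TwoLocal
section
/-!
# Involution centralizers in groups with property `Good`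
-/

set_option autoImplicit false

namespace Cfsg.Agent.H178.CType

open Subgroup Cfsg.Agent.H503.TwoReg Cfsg Cfsg.Agent.Lib.Cores

/-- `O_r(C)` is central for the odd primes `r`. -/
def OddCentral (C : Type*) [Group C] : Prop := ∀ r : ℕ, r.Prime → r ≠ 2 → pCore r C ≤ center C

theorem OddCentral.of_core {C : Type*} [Group C] [Finite C] (h : pPrimeCore 2 C = ⊥) : OddCentral C := by
  intro r hr hr2
  have := Fact.mk hr
  have h1 : pCore r C ≤ pPrimeCore 2 C := by
    refine le_pPrimeCore (Cfsg.Agent.Lib.Cores.pCore_normal r) ?_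
    obtain ⟨k, hk⟩ := (pCore_isPGroup (G := C) r).exists_card_eq
    rw [hk]
    exact Nat.Coprime.pow_left k ((Nat.coprime_primes hr Nat.prime_two).mpr hr2)
  rw [h] at h1
  exact h1.trans bot_le

theorem mem_center_of_cent {C : Type*} [Group C] [Finite C] [Group.IsSolvable C] (h : OddCentral C) {a : C}
    (ha : (orderOf a).Coprime 2) (hc : a ∈ centralizer (pCore 2 C : Set C)) : a ∈ center C := by
  have h1 : a ∈ centralizer (fittingSubgroup C : Set C) ∧ a ∈ fittingSubgroup C := by
    refine OddOrderLocal.RankTwoFitting.mem_fitting_of_forall_mem_centralizer fun r hr => ?_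
    by_cases hr2 : r = 2
    · subst hr2; exact hc
    · rw [mem_centralizer_iff]
      intro g hg
      exact (mem_center_iff.mp (h r hr hr2 hg) a).symm
  exact OddOrderLocal.RankTwoFitting.mem_of_mem_fitting (p := 2) (W := center C) inferInstance h h1.2 ha

theorem zpowers_le_centralizer_zpowers {C : Type*} [Group C] {x a : C} (hxa : x * a = a * x) :
    zpowers x ≤ centralizer ((zpowers a : Subgroup C) : Set C) := by
  rw [zpowers_le, mem_centralizer_iff]
  rintro _ ⟨k, rfl⟩
  exact ((show Commute x a from hxa).zpow_right k).symm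

/-- Thompson's `P × Q` lemma for elements. -/
theorem cent_pCore {C : Type*} [Group C] [Finite C] {x a : C} {k : ℕ} (hx : x ^ 2 ^ k = 1)
    (ha : (orderOf a).Coprime 2) (hxa : x * a = a * x)
    (h : ∀ u ∈ pCore 2 C, u * x = x * u → u * a = a * u) : a ∈ centralizer (pCore 2 C : Set C) := by
  have hn : ∀ H : Subgroup C, H ≤ normalizer (pCore 2 C : Set C) := by
    intro H
    rw [normalizer_eq_top]
    exact le_top
  have hP : IsPGroup 2 (zpowers x) := by
    rintro ⟨_, j, rfl⟩
    refine ⟨k, Subtype.ext ?_⟩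
    show (x ^ j) ^ 2 ^ k = 1
    rw [← zpow_natCast, ← zpow_mul, mul_comm, zpow_mul, zpow_natCast, hx, one_zpow]
  refine S0028.result 2 (zpowers x) (zpowers a) (pCore 2 C) hP
    (by rw [Nat.card_zpowers]; exact ha) (pCore_isPGroup 2) (zpowers_le_centralizer_zpowers hxa)
    (hn _) (hn _) ?_ (mem_zpowers a)
  rintro u ⟨hu, hux⟩
  have h1 : u * x = x * u := ((mem_centralizer_iff.mp hux) x (mem_zpowers x)).symm
  have h2 := h u hu h1
  rw [mem_centralizer_iff]
  rintro _ ⟨j, rfl⟩
  exact (((show Commute u a from h2).zpow_right j)).symm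

variable {G : Type*} [Group G] [Finite G] {m : ℕ}

theorem pow_four' {G : Type*} [Group G] (x : G) : x ^ 2 ^ 2 = (x * x) * (x * x) := by
  rw [show (2 : ℕ) ^ 2 = 2 + 2 from rfl, pow_add, pow_two]

/-- In a solvable involution centralizer `C(t)` with central odd cores and a non-central odd element `w`, every
`2`-element `x` with `C(x) ≤ C(t)` is central. -/
theorem Good.cz_eq (h : Good G m) {t w x : G} (ht : t ≠ 1) {i : ℕ} (hti : t ^ 2 ^ i = 1)
    (hsol : Group.IsSolvable (cz t)) (hodd : OddCentral ↥(cz t)) {r j : ℕ} (hr : r.Prime) (hr2 : r ≠ 2)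
    (hwr : w ^ r ^ j = 1) (hw : w ∈ cz t) (hwn : ¬ cz t ≤ cz w) {k : ℕ} (hx : x ^ 2 ^ k = 1)
    (hxt : cz x ≤ cz t) : cz x = cz t := by
  by_contra hne
  have hlt : cz x < cz t := lt_of_le_of_ne hxt hne
  have hm := h x t ht hlt
  have := Fact.mk hr
  have hwo : (orderOf w).Coprime 2 :=
    Nat.Coprime.coprime_dvd_left (orderOf_dvd_of_pow_eq_one hwr)
      (Nat.Coprime.pow_left j ((Nat.coprime_primes hr Nat.prime_two).mpr hr2))
  have hm' := h.card_mul ht hw (coprime_two_of_pow hti hwo) hwn
  have hx1 : x ≠ 1 := by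
    rintro rfl
    apply hlt.not_ge
    intro g _
    exact mem_cz.mpr (by rw [mul_one, one_mul])
  have hxx : x ∈ cz t := hxt (mem_cz.mpr rfl)
  -- the elements of odd order of `C(x)` are central in `C(t)`
  have hcen : ∀ a ∈ cz x, (orderOf a).Coprime 2 → cz t ≤ cz a := by
    intro a ha hao
    have h1 := h.low_central hx1 hm ha (coprime_two_of_pow hx hao)
    have h2 : (⟨a, hxt ha⟩ : cz t) ∈ center (cz t) := by
      apply mem_center_of_cent hodd
      · rw [← orderOf_coe]; exact hao
      · refine cent_pCore (x := ⟨x, hxx⟩) (k := k) (Subtype.ext hx) (by rw [← orderOf_coe]; exact hao)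
          (Subtype.ext (mem_cz.mp ha).symm) ?_
        intro u _ hux
        apply Subtype.ext
        exact mem_cz.mp (h1 (mem_cz.mpr (congrArg Subtype.val hux)))
    rwa [mem_center_cz] at h2
  -- a Sylow `r`-subgroup of `C(x)`
  let P : Sylow r (cz x) := default
  let P' : Subgroup G := (P : Subgroup (cz x)).map (cz x).subtype
  have hP' : IsPGroup r P' := P.isPGroup'.map _
  have hP'x : P' ≤ cz x := map_subtype_le _
  have hP'o : ∀ a ∈ P', (orderOf a).Coprime 2 := by
    intro a ha
    obtain ⟨n, hn⟩ := hP' ⟨a, ha⟩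
    have hn' : a ^ r ^ n = 1 := congrArg Subtype.val hn
    exact Nat.Coprime.coprime_dvd_left (orderOf_dvd_of_pow_eq_one hn')
      (Nat.Coprime.pow_left n ((Nat.coprime_primes hr Nat.prime_two).mpr hr2))
  have hP'w : ∀ a ∈ P', w * a = a * w := fun a ha => mem_cz.mp (hcen a (hP'x ha) (hP'o a ha) hw)
  have hcard : Nat.card P' = r ^ m.factorization r := by
    have h1 : Nat.card P' = Nat.card (P : Subgroup (cz x)) :=
      Nat.card_congr ((P : Subgroup (cz x)).equivMapOfInjective (cz x).subtype (subtype_injective _)).symm.toEquiv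
    rw [h1, P.card_eq_multiplicity, hm]
  let K : Subgroup G := P' ⊔ zpowers w
  have hwP : IsPGroup r (zpowers w) := by
    rintro ⟨_, l, rfl⟩
    refine ⟨j, Subtype.ext ?_⟩
    show (w ^ l) ^ r ^ j = 1
    rw [← zpow_natCast, ← zpow_mul, mul_comm, zpow_mul, zpow_natCast, hwr, one_zpow]
  have hK : IsPGroup r K := by
    refine hP'.to_sup_of_normal_right' hwP ?_
    intro a ha
    have h1 : zpowers w ≤ centralizer ({a} : Set G) := by
      rw [zpowers_le]
      exact mem_cz.mpr (hP'w a ha)
    rw [mem_normalizer_iff]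
    intro g
    have key : ∀ g ∈ zpowers w, a * g * a⁻¹ = g := by
      intro g hg
      have := mem_cz.mp (h1 hg)
      rw [← this, mul_inv_cancel_right]
    constructor
    · intro hg
      rw [key g hg]; exact hg
    · intro hg
      have h2 := key _ hg
      have h3 : g = a * g * a⁻¹ := by
        have : a * (a * g * a⁻¹) * a⁻¹ = a * g * a⁻¹ := h2
        have h4 : a * g * a⁻¹ = g := by
          have := mul_right_cancel this
          exact mul_left_cancel this
        exact h4.symm
      rw [h3]; exact hg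
  have hKle : K ≤ cz (t * w) := by
    rw [cz_mul (mem_cz.mp hw).symm (coprime_two_of_pow hti hwo)]
    refine sup_le ?_ ?_
    · intro a ha
      exact ⟨hxt (hP'x ha), mem_cz.mpr (hP'w a ha).symm⟩
    · rw [zpowers_le]
      exact ⟨hw, mem_cz.mpr rfl⟩
  have hKcard : Nat.card K ≤ Nat.card P' := by
    obtain ⟨n, hn⟩ := hK.exists_card_eq
    have h1 : Nat.card K ∣ Nat.card (cz (t * w)) := card_dvd_of_le hKle
    rw [hm', hn] at h1
    rw [hn, hcard]
    refine Nat.pow_le_pow_right hr.pos ?_
    have hm0 : m ≠ 0 := by rw [← hm]; exact Nat.card_pos.ne'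
    exact (hr.pow_dvd_iff_le_factorization hm0).mp h1
  have hKeq : P' = K := Subgroup.eq_of_le_of_card_ge le_sup_left hKcard
  have hwP' : w ∈ P' := by
    rw [hKeq]
    exact mem_sup_right (mem_zpowers w)
  exact hwn (hcen w (hP'x hwP') hwo)

/-- An involution `t` with solvable centralizer, central odd cores and a non-central odd element in `C(t)` is not a
square. -/
theorem Good.not_sq (h : Good G m) {t w : G} (ht : t ≠ 1) (htt : t * t = 1)
    (hsol : Group.IsSolvable (cz t)) (hodd : OddCentral ↥(cz t)) {r j : ℕ} (hr : r.Prime) (hr2 : r ≠ 2)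
    (hwr : w ^ r ^ j = 1) (hw : w ∈ cz t) (hwn : ¬ cz t ≤ cz w) (x : G) : x * x ≠ t := by
  intro hx
  have ht2 : t ^ 2 ^ 1 = 1 := by rw [pow_one, pow_two, htt]
  have key : ∀ {y : G} {k : ℕ}, y ^ 2 ^ k = 1 → cz y ≤ cz t → cz y = cz t := fun hy hyt =>
    h.cz_eq ht ht2 hsol hodd hr hr2 hwr hw hwn hy hyt
  have hxt : cz x = cz t := by
    refine key (k := 2) ?_ (hx ▸ cz_le_sq x)
    rw [pow_four', hx, htt]
  have hwo : (orderOf w).Coprime 2 :=
    Nat.Coprime.coprime_dvd_left (orderOf_dvd_of_pow_eq_one hwr)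
      (Nat.Coprime.pow_left j ((Nat.coprime_primes hr Nat.prime_two).mpr hr2))
  -- the involutions of `C(t)` are central
  have hinv : ∀ y ∈ cz t, y * y = 1 → cz t ≤ cz y := by
    intro y hy hyy
    have hxy : x * y = y * x := (mem_cz.mp (hxt ▸ hy : y ∈ cz x)).symm
    have h1 : (x * y) * (x * y) = t := by
      calc (x * y) * (x * y) = x * (y * x) * y := by group
        _ = x * (x * y) * y := by rw [hxy]
        _ = (x * x) * (y * y) := by group
        _ = t := by rw [hx, hyy, mul_one]
    have h2 : cz (x * y) = cz t := by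
      refine key (k := 2) ?_ (h1 ▸ cz_le_sq (x * y))
      rw [pow_four', h1, htt]
    intro g hg
    have hgx : Commute g x := mem_cz.mp (hxt ▸ hg : g ∈ cz x)
    have hgxy : Commute g (x * y) := mem_cz.mp (h2 ▸ hg : g ∈ cz (x * y))
    have hgy : Commute g y := by
      have := hgx.inv_right.mul_right hgxy
      rwa [inv_mul_cancel_left] at this
    exact mem_cz.mpr hgy
  -- the `2`-elements of `C(t)` are central
  have hall : ∀ (k : ℕ) (y : G), y ∈ cz t → y ^ 2 ^ k = 1 → cz t ≤ cz y := by
    intro k y hy hk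
    by_cases hy1 : y = 1
    · subst hy1
      intro g _
      exact mem_cz.mpr (by rw [mul_one, one_mul])
    -- the involution in `⟨y⟩`
    obtain ⟨n, hn⟩ : ∃ n : ℕ, (y ^ n ≠ 1 ∧ y ^ n * y ^ n = 1) := by
      induction k generalizing y with
      | zero => exact absurd (by simpa using hk) hy1
      | succ k ih =>
        by_cases h1 : y ^ 2 ^ k = 1
        · exact ih y hy h1 hy1
        · exact ⟨2 ^ k, h1, by rw [← pow_add, ← two_mul, ← pow_succ']; exact hk⟩
    have hu : y ^ n ∈ cz t := pow_mem hy n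
    have h1 := hinv _ hu hn.2
    have h2 : cz (y ^ n) = cz t := by
      by_contra hne
      have hlt : cz t < cz (y ^ n) := lt_of_le_of_ne h1 (Ne.symm hne)
      have h3 := h _ _ hn.1 hlt
      have h4 := h.card_mul ht hw (coprime_two_of_pow ht2 hwo) hwn
      have h5 : cz (t * w) = cz t ⊓ cz w := cz_mul (mem_cz.mp hw).symm (coprime_two_of_pow ht2 hwo)
      have h6 : cz (t * w) = cz t := by
        refine Subgroup.eq_of_le_of_card_ge (by rw [h5]; exact inf_le_left) ?_
        rw [h3, h4]
      apply hwn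
      rw [← h6, h5]
      exact inf_le_right
    have h3 : cz y = cz t := key hk (h2 ▸ centralizer_le_of_mem_zpowers (npow_mem_zpowers y n))
    exact h3.ge
  -- contradiction
  apply hwn
  have h1 : (⟨w, hw⟩ : cz t) ∈ center (cz t) := by
    apply mem_center_of_cent hodd
    · rw [← orderOf_coe]; exact hwo
    · rw [mem_centralizer_iff]
      intro u hu
      obtain ⟨k, hk⟩ := pCore_isPGroup 2 ⟨u, hu⟩
      have hk' : (u : G) ^ 2 ^ k = 1 := congrArg (fun z => ((z : ↥(cz t)) : G)) (congrArg Subtype.val hk)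
      have h3 := hall k u u.2 hk'
      apply Subtype.ext
      exact (mem_cz.mp (h3 hw)).symm
  rwa [mem_center_cz] at h1

end Cfsg.Agent.H178.CType
end

-- part: H178/CType/AbSylow
section
/-!
# Groups with property `Good`: abelian Sylow 2-subgroups, and the centralizer `SL₂(3)`-type
-/

set_option autoImplicit false

namespace Cfsg.Agent.H178.CType

open Subgroup Cfsg.Agent.H503.TwoReg Cfsg Cfsg.Agent.Lib.Cores
open scoped Pointwise

theorem cz_conj {G : Type*} [Group G] (g x : G) : cz (g * x * g⁻¹) = MulAut.conj g • cz x := by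
  ext y
  rw [mem_cz, Subgroup.mem_pointwise_smul_iff_inv_smul_mem, mem_cz]
  rw [← map_inv, MulAut.smul_def, MulAut.conj_apply, inv_inv]
  constructor
  · intro h
    calc g⁻¹ * y * g * x = g⁻¹ * (y * (g * x * g⁻¹)) * g := by group
      _ = g⁻¹ * (g * x * g⁻¹ * y) * g := by rw [h]
      _ = x * (g⁻¹ * y * g) := by group
  · intro h
    calc y * (g * x * g⁻¹) = g * (g⁻¹ * y * g * x) * g⁻¹ := by group
      _ = g * (x * (g⁻¹ * y * g)) * g⁻¹ := by rw [h]
      _ = g * x * g⁻¹ * y := by group

variable {G : Type*} [Group G] [Finite G] {m : ℕ}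

/-- In a group with property `Good` whose involution centralizers are solvable with trivial odd core and not all
2-groups, the Sylow 2-subgroups are abelian. -/
theorem Good.sylow_comm (h : Good G m) (hsol : ∀ t : G, orderOf t = 2 → Group.IsSolvable (cz t))
    (hcore : ∀ t : G, orderOf t = 2 → pPrimeCore 2 ↥(cz t) = ⊥) {t : G} (ht : orderOf t = 2)
    (hnp : ¬ IsPGroup 2 (cz t)) (S : Sylow 2 G) : ∀ a ∈ S, ∀ b ∈ S, a * b = b * a := by
  -- a general fact on involutions whose centralizer is not a 2-group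
  have hex : ∀ t : G, orderOf t = 2 → ¬ IsPGroup 2 (cz t) → ∃ (r : ℕ) (w : G), r.Prime ∧ r ≠ 2 ∧ w ^ r ^ 1 = 1 ∧
      w ≠ 1 ∧ w ∈ cz t ∧ ¬ cz t ≤ cz w := by
    intro t ht hnp
    obtain ⟨r, hr, hrd, hr2⟩ : ∃ r : ℕ, r.Prime ∧ r ∣ Nat.card (cz t) ∧ r ≠ 2 := by
      by_contra hcon
      push Not at hcon
      apply hnp
      have h0 : Nat.card (cz t) ≠ 0 := Nat.card_pos.ne'
      have : Nat.card (cz t) = 2 ^ (Nat.card (cz t)).primeFactorsList.length :=
        Nat.eq_prime_pow_of_unique_prime_dvd h0 (fun {d} hd hdd => hcon d hd hdd)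
      exact IsPGroup.of_card this
    have := Fact.mk hr
    obtain ⟨w, hw⟩ := exists_prime_orderOf_dvd_card' r hrd
    have hw' : (w : G) ^ r ^ 1 = 1 := by
      rw [pow_one, ← hw, ← orderOf_coe]
      exact pow_orderOf_eq_one _
    have hw1 : (w : G) ≠ 1 := by
      intro h1
      have : w = 1 := Subtype.ext h1
      rw [this, orderOf_one] at hw
      exact hr.one_lt.ne hw
    refine ⟨r, w, hr, hr2, hw', hw1, w.2, ?_⟩
    rw [← mem_center_cz]
    intro hc
    have hn : (zpowers w).Normal := by
      refine ⟨fun a ha g => ?_⟩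
      have h1 : a ∈ center (cz t) := (zpowers_le.mpr hc) ha
      rw [mem_center_iff.mp h1 g, mul_inv_cancel_right]
      exact ha
    have h1 : zpowers w ≤ pPrimeCore 2 ↥(cz t) := by
      refine le_pPrimeCore hn ?_
      rw [Nat.card_zpowers, hw]
      exact (Nat.coprime_primes hr Nat.prime_two).mpr hr2
    rw [hcore t ht, le_bot_iff, zpowers_eq_bot] at h1
    exact hw1 (congrArg Subtype.val h1)
  obtain ⟨r, w, hr, hr2, hwr, hw1, hw, hwn⟩ := hex t ht hnp
  have := Fact.mk hr
  have ht1 : t ≠ 1 := by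
    rintro rfl
    rw [orderOf_one] at ht; omega
  have htt : t * t = 1 := by rw [← pow_two, ← ht]; exact pow_orderOf_eq_one t
  have ht2 : t ^ 2 ^ 1 = 1 := by rw [pow_one, pow_two, htt]
  have hwo : (orderOf w).Coprime 2 :=
    Nat.Coprime.coprime_dvd_left (orderOf_dvd_of_pow_eq_one hwr)
      (Nat.Coprime.pow_left _ ((Nat.coprime_primes hr Nat.prime_two).mpr hr2))
  have hm := h.card_mul ht1 hw (coprime_two_of_pow ht2 hwo) hwn
  -- `m` is not a power of two
  have hm2 : ∀ H : Subgroup G, IsPGroup 2 H → Nat.card H ≠ m := by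
    intro H hH hHm
    obtain ⟨n, hn⟩ := hH.exists_card_eq
    have h1 : w ∈ cz (t * w) := by
      rw [cz_mul (mem_cz.mp hw).symm (coprime_two_of_pow ht2 hwo)]
      exact ⟨hw, mem_cz.mpr rfl⟩
    have h2 : orderOf (⟨w, h1⟩ : cz (t * w)) ∣ Nat.card (cz (t * w)) := orderOf_dvd_natCard _
    rw [Subgroup.orderOf_mk, hm, ← hHm, hn] at h2
    have h3 : (orderOf w).Coprime (2 ^ n) := Nat.Coprime.pow_right n hwo
    have h4 := Nat.Coprime.eq_one_of_dvd h3 h2
    exact hw1 (orderOf_eq_one_iff.mp h4)
  have hord : ∀ u : G, u ≠ 1 → u * u = 1 → orderOf u = 2 := fun u hu huu =>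
    orderOf_eq_prime (by rw [pow_two, huu]) hu
  -- elements of order four
  have hfour : ∀ x : G, x * x ≠ 1 → (x * x) * (x * x) = 1 → IsPGroup 2 (cz (x * x)) ∧ cz x = cz (x * x) ∧
      ∃ T : Sylow 2 G, cz (x * x) = T := by
    intro x hx hxx
    have hu := hord _ hx hxx
    have hp : IsPGroup 2 (cz (x * x)) := by
      by_contra hnp'
      obtain ⟨r', w', hr', hr2', hwr', -, hw', hwn'⟩ := hex _ hu hnp'
      exact h.not_sq hx hxx (hsol _ hu) (OddCentral.of_core (hcore _ hu)) hr' hr2' hwr' hw' hwn' x rfl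
    have heq : cz x = cz (x * x) := by
      by_contra hne
      have h1 := h x (x * x) hx (lt_of_le_of_ne (cz_le_sq x) hne)
      exact hm2 (cz x) (hp.to_le (cz_le_sq x)) h1
    refine ⟨hp, heq, ?_⟩
    obtain ⟨T, hT⟩ := hp.exists_le_sylow
    refine ⟨T, ?_⟩
    -- an involution in the centre of `T`
    have hne : Nontrivial T := by
      have hxT : x * x ∈ T := hT (mem_cz.mpr rfl)
      exact ⟨⟨⟨x * x, hxT⟩, 1, fun h1 => hx (congrArg Subtype.val h1)⟩⟩
    have hcn := T.isPGroup'.center_nontrivial
    obtain ⟨z, hz⟩ := exists_ne (1 : center T)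
    have hz1 : ((z : T) : G) ≠ 1 := fun h1 => hz (Subtype.ext (Subtype.ext h1))
    have hTz : (T : Subgroup G) ≤ cz ((z : T) : G) := by
      intro g hg
      exact mem_cz.mpr (congrArg Subtype.val (mem_center_iff.mp z.2 ⟨g, hg⟩))
    have h1 : cz (x * x) = cz ((z : T) : G) := by
      by_contra hne'
      have h2 := h _ _ hz1 (lt_of_le_of_ne (hT.trans hTz) hne')
      exact hm2 _ hp h2
    exact le_antisymm hT (h1 ▸ hTz)
  by_cases hS : ∀ y ∈ S, y * y = 1
  · intro a ha b hb
    have h1 := hS _ (mul_mem ha hb)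
    have h2 := hS _ ha
    have h3 := hS _ hb
    have ha' : a⁻¹ = a := inv_eq_of_mul_eq_one_left h2
    have hb' : b⁻¹ = b := inv_eq_of_mul_eq_one_left h3
    have hab' : (a * b)⁻¹ = a * b := inv_eq_of_mul_eq_one_left h1
    rw [← hab', mul_inv_rev, ha', hb']
  · push Not at hS
    obtain ⟨y₀, hy₀, hy₀1⟩ := hS
    -- powers of order four
    have hpow : ∀ (k : ℕ) (y : G), y ^ 2 ^ k = 1 → y * y ≠ 1 → ∃ n : ℕ, y ^ n * y ^ n ≠ 1 ∧
        (y ^ n * y ^ n) * (y ^ n * y ^ n) = 1 := by
      intro k
      induction k with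
      | zero =>
        intro y hy hyy
        rw [pow_zero, pow_one] at hy
        exact absurd (by rw [hy, mul_one]) hyy
      | succ k ih =>
        intro y hy hyy
        by_cases h1 : (y * y) * (y * y) = 1
        · exact ⟨1, by rwa [pow_one], by rwa [pow_one]⟩
        · have h2 : (y * y) ^ 2 ^ k = 1 := by
            rw [← pow_two, ← pow_mul, ← pow_succ']
            exact hy
          obtain ⟨n, hn1, hn2⟩ := ih (y * y) h2 h1
          refine ⟨2 * n, ?_, ?_⟩
          · rwa [pow_mul, pow_two]
          · rwa [pow_mul, pow_two]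
    have hSp : ∀ y ∈ S, ∃ k : ℕ, y ^ 2 ^ k = 1 := by
      intro y hy
      obtain ⟨k, hk⟩ := S.isPGroup' ⟨y, hy⟩
      exact ⟨k, congrArg Subtype.val hk⟩
    obtain ⟨x, hxx, hxx4, hxS⟩ : ∃ x : G, x * x ≠ 1 ∧ (x * x) * (x * x) = 1 ∧ cz (x * x) = S := by
      obtain ⟨k, hk⟩ := hSp y₀ hy₀
      obtain ⟨n, hn1, hn2⟩ := hpow k y₀ hk hy₀1
      obtain ⟨-, -, T, hT⟩ := hfour _ hn1 hn2
      obtain ⟨g, hg⟩ := MulAction.exists_smul_eq G T S
      have hc : (g * y₀ ^ n * g⁻¹) * (g * y₀ ^ n * g⁻¹) = g * (y₀ ^ n * y₀ ^ n) * g⁻¹ := by group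
      refine ⟨g * y₀ ^ n * g⁻¹, ?_, ?_, ?_⟩
      · rw [hc]
        intro h1
        apply hn1
        calc y₀ ^ n * y₀ ^ n = g⁻¹ * (g * (y₀ ^ n * y₀ ^ n) * g⁻¹) * g := by group
          _ = 1 := by rw [h1]; group
      · rw [hc]
        have : g * (y₀ ^ n * y₀ ^ n) * g⁻¹ * (g * (y₀ ^ n * y₀ ^ n) * g⁻¹) =
          g * ((y₀ ^ n * y₀ ^ n) * (y₀ ^ n * y₀ ^ n)) * g⁻¹ := by group
        rw [this, hn2, mul_one, mul_inv_cancel]
      · rw [hc, cz_conj, hT, ← hg]
        rfl
    have hxS' : cz x = S := by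
      obtain ⟨-, h1, -⟩ := hfour x hxx hxx4
      rw [h1, hxS]
    -- the involutions of `S` are central
    have hinv : ∀ v ∈ S, v * v = 1 → (S : Subgroup G) ≤ cz v := by
      intro v hv hvv
      have hvx : v * x = x * v := mem_cz.mp (hxS' ▸ hv : v ∈ cz x)
      have h1 : (v * x) * (v * x) = x * x := by
        calc (v * x) * (v * x) = v * (x * v) * x := by group
          _ = v * (v * x) * x := by rw [hvx]
          _ = (v * v) * (x * x) := by group
          _ = x * x := by rw [hvv, one_mul]
      obtain ⟨-, h2, -⟩ := hfour (v * x) (by rw [h1]; exact hxx) (by rw [h1]; exact hxx4)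
      rw [h1, hxS] at h2
      intro g hg
      have hgx : Commute g x := mem_cz.mp (hxS' ▸ hg : g ∈ cz x)
      have hgvx : Commute g (v * x) := mem_cz.mp (h2 ▸ hg : g ∈ cz (v * x))
      have := hgvx.mul_right hgx.inv_right
      rw [mul_inv_cancel_right] at this
      exact mem_cz.mpr this
    have hall : ∀ y ∈ S, (S : Subgroup G) ≤ cz y := by
      intro y hy
      by_cases hyy : y * y = 1
      · exact hinv y hy hyy
      · obtain ⟨k, hk⟩ := hSp y hy
        obtain ⟨n, hn1, hn2⟩ := hpow k y hk hyy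
        obtain ⟨h1, h2, T, hT⟩ := hfour _ hn1 hn2
        have h3 : (S : Subgroup G) ≤ cz (y ^ n * y ^ n) :=
          hinv _ (mul_mem (pow_mem hy n) (pow_mem hy n)) hn2
        have h4 : (S : Subgroup G) = cz (y ^ n * y ^ n) := (S.is_maximal' h1 h3).symm
        have h5 : cz y ≤ cz (y ^ n) := centralizer_le_of_mem_zpowers (npow_mem_zpowers y n)
        have h6 : cz y = cz (y ^ n) := by
          by_contra hne
          have hn0 : y ^ n ≠ 1 := by
            intro h0
            apply hn1
            rw [h0, mul_one]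
          exact hm2 _ (h1.to_le (h5.trans h2.le)) (h _ _ hn0 (lt_of_le_of_ne h5 hne))
        rw [h6, h2, ← h4]
    intro a ha b hb
    exact (mem_cz.mp (hall b hb ha))

/-- No classical involution with `SL₂(3)`. -/
theorem Good.false_of_quat (h : Good G m) {j x y d : G} (hj : orderOf j = 2) (hsol : Group.IsSolvable (cz j))
    (hxj : x * x = j) (hyj : y ∈ cz j) (hxQ : (⟨x, hxj ▸ (mem_cz.mpr (mul_assoc x x x).symm)⟩ : cz j) ∈ pCore 2 (cz j))
    (hyQ : (⟨y, hyj⟩ : cz j) ∈ pCore 2 (cz j)) (hxy : x * y ≠ y * x)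
    (hd : d ^ 3 = 1) (hdj : d ∈ cz j) (hdx : d * x ≠ x * d) : False := by
  have hj1 : j ≠ 1 := by
    rintro rfl
    rw [orderOf_one] at hj; omega
  have hjj : j * j = 1 := by rw [← pow_two, ← hj]; exact pow_orderOf_eq_one j
  have hj2 : j ^ 2 ^ 1 = 1 := by rw [pow_one, pow_two, hjj]
  have hx4 : x ^ 2 ^ 2 = 1 := by rw [pow_four', hxj, hjj]
  have hxc : x ∈ cz j := hxj ▸ (mem_cz.mpr (mul_assoc x x x).symm)
  have hlt : cz x < cz j := by
    refine lt_of_le_of_ne (hxj ▸ cz_le_sq x) ?_
    intro he
    apply hxy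
    exact (mem_cz.mp (he ▸ hyj : y ∈ cz x)).symm
  have hm := h x j hj1 hlt
  have hx1 : x ≠ 1 := by
    rintro rfl
    apply hxy; rw [one_mul, mul_one]
  have hodd : OddCentral (cz j) := by
    intro r hr hr2 a ha
    have := Fact.mk hr
    by_contra hac
    rw [mem_center_cz] at hac
    have hcomm : ∀ u ∈ pCore 2 (cz j), u * a = a * u := by
      intro u hu
      have h1 := Subgroup.commute_of_normal_of_disjoint (pCore 2 (cz j)) (pCore r (cz j)) inferInstance inferInstance
        (IsPGroup.disjoint_of_ne 2 r (Ne.symm hr2) _ _ (pCore_isPGroup 2) (pCore_isPGroup r)) u a hu ha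
      exact h1
    obtain ⟨k, hk⟩ := pCore_isPGroup r ⟨a, ha⟩
    have hk' : (a : G) ^ r ^ k = 1 := congrArg (fun z => ((z : ↥(cz j)) : G)) (congrArg Subtype.val hk)
    have hao : (orderOf (a : G)).Coprime 2 :=
      Nat.Coprime.coprime_dvd_left (orderOf_dvd_of_pow_eq_one hk')
        (Nat.Coprime.pow_left k ((Nat.coprime_primes hr Nat.prime_two).mpr hr2))
    have hax : (a : G) ∈ cz x := mem_cz.mpr (congrArg Subtype.val (hcomm _ hxQ)).symm
    have h1 : cz x ≤ cz (a : G) := h.low_central hx1 hm hax (coprime_two_of_pow hx4 hao)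
    have h2 : Nat.card (cz (j * a)) = m := h.card_mul hj1 a.2 (coprime_two_of_pow hj2 hao) hac
    have h3 : cz (j * a) = cz j ⊓ cz (a : G) := cz_mul (mem_cz.mp a.2).symm (coprime_two_of_pow hj2 hao)
    have h4 : cz x = cz (j * a) := by
      refine Subgroup.eq_of_le_of_card_ge ?_ (by rw [h2, hm])
      rw [h3]
      exact le_inf hlt.le h1
    apply hxy
    have h5 : y ∈ cz x := by
      rw [h4, h3]
      exact ⟨hyj, mem_cz.mpr (congrArg Subtype.val (hcomm _ hyQ))⟩
    exact (mem_cz.mp h5).symm
  have hdn : ¬ cz j ≤ cz d := by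
    intro hle
    exact hdx (mem_cz.mp (hle hxc)).symm
  have h1 := h.cz_eq hj1 hj2 hsol hodd Nat.prime_three (by decide) (j := 1) (by rw [pow_one]; exact hd) hdj hdn hx4
    hlt.le
  exact hlt.ne h1

end Cfsg.Agent.H178.CType
end

-- part: H178/CType/Main
section
/-!
# Simple groups with property `Good`
-/

set_option autoImplicit false

namespace Cfsg.Agent.H178.CType

open Subgroup Cfsg.Agent.H503.TwoReg Cfsg Cfsg.Agent.Lib.Cores
open Cfsg.Agent.OddHalf.LieOddFam (Rk OddPow XL27 XL2Big lieOdd_cases)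
open Cfsg.Agent.OddHalf.LongSL (HasLong hasLong_of_rk closure_odd_SL)
open scoped commutatorElement

universe u

/-- a non-trivial element conjugate to a commutator `⁅x, yxy⁻¹⁆` -/
theorem not_solvable_of_comm {C : Type*} [Group C] {x y z : C} (hx : x ≠ 1)
    (h : x = z * ⁅x, y * x * y⁻¹⁆ * z⁻¹) : ¬ Group.IsSolvable C := by
  intro hs
  obtain ⟨n, hn⟩ := (Group.isSolvable_def C).mp hs
  have key : ∀ n, x ∈ derivedSeries C n := by
    intro n
    induction n with
    | zero => exact mem_top x
    | succ n ih =>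
      rw [h]
      refine (derivedSeries_normal C (n + 1)).conj_mem _ ?_ _
      exact commutator_mem_commutator ih ((derivedSeries_normal C n).conj_mem _ ih _)
  have := key n
  rw [hn] at this
  exact hx this

theorem not_solvable_alt8 {G : Type*} [Group G] (f : alternatingGroup (Fin 8) →* G) (hf : Function.Injective f) :
    ∃ t : G, t ≠ 1 ∧ t ^ 3 ^ 1 = 1 ∧ ¬ Group.IsSolvable (cz t) := by
  let t : alternatingGroup (Fin 8) := ⟨Equiv.swap 0 1 * Equiv.swap 1 2, Equiv.Perm.mem_alternatingGroup.2 (by decide +kernel)⟩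
  let x : alternatingGroup (Fin 8) := ⟨Equiv.swap 3 4 * Equiv.swap 4 5, Equiv.Perm.mem_alternatingGroup.2 (by decide +kernel)⟩
  let y : alternatingGroup (Fin 8) := ⟨Equiv.swap 4 6 * Equiv.swap 5 7, Equiv.Perm.mem_alternatingGroup.2 (by decide +kernel)⟩
  let z : alternatingGroup (Fin 8) := ⟨Equiv.swap 5 7 * Equiv.swap 7 6, Equiv.Perm.mem_alternatingGroup.2 (by decide +kernel)⟩
  have ht1 : t ≠ 1 := by decide +kernel
  have hx1 : x ≠ 1 := by decide +kernel
  have ht3 : t ^ 3 = 1 := by decide +kernel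
  have hxt : x * t = t * x := by decide +kernel
  have hyt : y * t = t * y := by decide +kernel
  have hzt : z * t = t * z := by decide +kernel
  have key : x = z * ⁅x, y * x * y⁻¹⁆ * z⁻¹ := by decide +kernel
  refine ⟨f t, fun h => ht1 (hf (by rw [h, map_one])), by rw [pow_one, ← map_pow, ht3, map_one], ?_⟩
  have hc : ∀ g, g * t = t * g → f g ∈ cz (f t) := fun g hg => mem_cz.mpr (by rw [← map_mul, hg, map_mul])
  refine not_solvable_of_comm (x := ⟨f x, hc x hxt⟩) (y := ⟨f y, hc y hyt⟩) (z := ⟨f z, hc z hzt⟩) ?_ ?_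
  · intro h
    exact hx1 (hf (by rw [map_one]; exact congrArg Subtype.val h))
  · apply Subtype.ext
    show f x = f z * ⁅f x, f y * f x * (f y)⁻¹⁆ * (f z)⁻¹
    conv_lhs => rw [key]
    simp only [map_mul, map_inv, commutatorElement_def]

/-- `SL₂(3)`: the data used below. -/
theorem exists_quat {F : Type*} [Field F] [Fintype F] (h3 : Fintype.card F = 3) :
    ∃ x y d : Matrix.SpecialLinearGroup (Fin 2) F, x ∈ pCore 2 (Matrix.SpecialLinearGroup (Fin 2) F) ∧
      y ∈ pCore 2 (Matrix.SpecialLinearGroup (Fin 2) F) ∧ x * y ≠ y * x ∧ d ^ 3 = 1 ∧ d * x ≠ x * d ∧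
      x * x ≠ 1 ∧ (x * x) * (x * x) = 1 ∧
      ∀ j : Matrix.SpecialLinearGroup (Fin 2) F, j ≠ 1 → j * j = 1 → j = x * x := by
  have φ : ZMod 3 ≃+* F := ZMod.ringEquivOfPrime F Nat.prime_three h3
  let e := ChevalleyStructure.FieldIso.slEquiv 2 φ
  suffices H : ∃ x y d : Matrix.SpecialLinearGroup (Fin 2) (ZMod 3),
      x ∈ pCore 2 (Matrix.SpecialLinearGroup (Fin 2) (ZMod 3)) ∧
      y ∈ pCore 2 (Matrix.SpecialLinearGroup (Fin 2) (ZMod 3)) ∧ x * y ≠ y * x ∧ d ^ 3 = 1 ∧ d * x ≠ x * d ∧
      x * x ≠ 1 ∧ (x * x) * (x * x) = 1 ∧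
      ∀ j : Matrix.SpecialLinearGroup (Fin 2) (ZMod 3), j ≠ 1 → j * j = 1 → j = x * x by
    obtain ⟨x, y, d, hx, hy, h1, h2, h3, h4, h5, h6⟩ := H
    have hmem : ∀ {a : Matrix.SpecialLinearGroup (Fin 2) (ZMod 3)},
        a ∈ pCore 2 (Matrix.SpecialLinearGroup (Fin 2) (ZMod 3)) → e a ∈ pCore 2 (Matrix.SpecialLinearGroup (Fin 2) F) := by
      intro a ha
      rw [← map_equiv_pCore e 2]
      exact ⟨a, ha, rfl⟩
    refine ⟨e x, e y, e d, hmem hx, hmem hy, ?_, ?_, ?_, ?_, ?_, ?_⟩
    · intro h
      apply h1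
      apply e.injective
      rw [map_mul, map_mul, h]
    · rw [← map_pow, h2, map_one]
    · intro h
      apply h3
      apply e.injective
      rw [map_mul, map_mul, h]
    · intro h
      apply h4
      apply e.injective
      rw [map_mul, h, map_one]
    · rw [← map_mul, ← map_mul, h5, map_one]
    · intro j hj1 hjj
      have := h6 (e.symm j) (by simpa using hj1) (by rw [← map_mul, hjj, map_one])
      rw [← map_mul, ← this, MulEquiv.apply_symm_apply]
  have hQ : LieClassical.SLTwoThree.qhom.range ≤ pCore 2 (Matrix.SpecialLinearGroup (Fin 2) (ZMod 3)) := by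
    refine le_pCore LieClassical.SLTwoThree.range_normal (IsPGroup.of_card (n := 3) ?_)
    rw [LieClassical.SLTwoThree.card_range]; rfl
  refine ⟨LieClassical.SLTwoThree.qhom (.a 1), LieClassical.SLTwoThree.qhom (.xa 0), ⟨!![1, 1; 0, 1], by decide⟩,
    hQ ⟨_, rfl⟩, hQ ⟨_, rfl⟩, ?_, ?_, ?_, ?_, ?_, ?_⟩
  · decide +kernel
  · decide +kernel
  · decide +kernel
  · decide +kernel
  · decide +kernel
  · decide +kernel

/-- no long `SL₂(q)` -/
theorem Good.not_long {G : Type*} [Group G] [Finite G] {m : ℕ} (h : Good G m) {q : ℕ} (hq : 3 ≤ q) : ¬ HasLong q G := by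
  rintro ⟨j, J, hj, hjJ, hJ, hsn, F, i1, i2, hF, ho, ⟨e⟩⟩
  have hj1 : j ≠ 1 := by
    rintro rfl
    rw [orderOf_one] at hj; omega
  have hjj : j * j = 1 := by rw [← pow_two, ← hj]; exact pow_orderOf_eq_one j
  have hsol : Group.IsSolvable (cz j) := h.solvable Nat.prime_two hj1 (k := 1) (by rw [pow_one, pow_two, hjj])
  rcases Nat.lt_or_ge q 4 with hq4 | hq4
  · have hF3 : Fintype.card F = 3 := by omega
    obtain ⟨x, y, d, hx, hy, h1, h2, h3, h4, h5, h6⟩ := exists_quat hF3
    have hej : e ⟨j, hjJ⟩ = x * x := by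
      apply h6
      · intro h0
        apply hj1
        have := e.injective (h0.trans (map_one e).symm)
        exact congrArg Subtype.val this
      · rw [← map_mul]
        have : (⟨j, hjJ⟩ : J) * ⟨j, hjJ⟩ = 1 := Subtype.ext hjj
        rw [this, map_one]
    have hcore : (pCore 2 ↥J).map J.subtype ≤ (pCore 2 ↥(cz j)).map (cz j).subtype := H4.Lf.core_le hJ hsn
    have hmem : ∀ a : Matrix.SpecialLinearGroup (Fin 2) F, a ∈ pCore 2 (Matrix.SpecialLinearGroup (Fin 2) F) →
        (⟨(e.symm a : G), hJ (e.symm a).2⟩ : cz j) ∈ pCore 2 (cz j) := by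
      intro a ha
      have h7 : e.symm a ∈ pCore 2 J := by
        rw [← map_equiv_pCore e.symm 2]
        exact ⟨a, ha, rfl⟩
      obtain ⟨b, hb, hb'⟩ := hcore ⟨e.symm a, h7, rfl⟩
      have : b = (⟨(e.symm a : G), hJ (e.symm a).2⟩ : cz j) := Subtype.ext hb'
      rw [← this]
      exact hb
    have hxj : (e.symm x : G) * e.symm x = j := by
      rw [← coe_mul, ← map_mul, ← hej, MulEquiv.symm_apply_apply]
    refine h.false_of_quat (x := e.symm x) (y := e.symm y) (d := e.symm d) hj hsol hxj (hJ (e.symm y).2) (hmem x hx)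
      (hmem y hy) ?_ ?_ (hJ (e.symm d).2) ?_
    · intro h7
      apply h1
      apply e.symm.injective
      rw [map_mul, map_mul]
      exact Subtype.ext h7
    · rw [← SubmonoidClass.coe_pow, ← map_pow, h2, map_one]; rfl
    · intro h7
      apply h3
      apply e.symm.injective
      rw [map_mul, map_mul]
      exact Subtype.ext h7
  · apply Classification.NGroupExclude.not_isSolvable_sl F (by rw [hF]; exact hq4)
    exact Group.isSolvable_of_isSolvable_injective (f := (Subgroup.inclusion hJ).comp e.symm.toMonoidHom)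
      ((Subgroup.inclusion_injective hJ).comp e.symm.injective)

/-- the Ree groups: `C(t) = 2 × L₂(q)` -/
theorem Good.not_ree {G : Type*} [Group G] [Finite G] {m : ℕ} (h : Good G m) : ¬ Lie.IsoRee G := by
  rintro ⟨F, _, _, n, hn, hF, ⟨e⟩⟩
  obtain ⟨a, haH, ha1, ha2⟩ := S1157.exists_involution hF
  obtain ⟨⟨f⟩, -⟩ := S1152.result hF a haH ha1 ha2
  haveI : Finite ↥(Lie.twistedG2 F (3 ^ n)) := Finite.of_equiv G e.toEquiv
  have hx : e.symm a ≠ 1 := by simpa using ha1
  have h1 : Group.IsSolvable (cz (e.symm a)) :=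
    h.solvable Nat.prime_two hx (k := 1) (by rw [pow_one, pow_two, ← map_mul, ha2, map_one])
  let g : Matrix.ProjectiveSpecialLinearGroup (Fin 2) F →* centralizer ({a} : Set ↥(Lie.twistedG2 F (3 ^ n))) :=
    f.symm.toMonoidHom.comp (MonoidHom.inr (Multiplicative (ZMod 2)) (Matrix.ProjectiveSpecialLinearGroup (Fin 2) F))
  have hg : Function.Injective g := f.symm.injective.comp (fun x y hxy => (Prod.ext_iff.1 hxy).2)
  let k : centralizer ({a} : Set ↥(Lie.twistedG2 F (3 ^ n))) →* cz (e.symm a) :=
    (e.symm.toMonoidHom.comp (centralizer ({a} : Set ↥(Lie.twistedG2 F (3 ^ n)))).subtype).codRestrict _ (by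
      rintro ⟨x, hx⟩
      rw [mem_cz]
      change e.symm x * e.symm a = e.symm a * e.symm x
      rw [← map_mul, mem_centralizer_singleton_iff.mp hx, map_mul])
  have hk : Function.Injective k := by
    intro x y hxy
    have : e.symm (x : ↥(Lie.twistedG2 F (3 ^ n))) = e.symm y := congrArg Subtype.val hxy
    exact Subtype.ext (e.symm.injective this)
  have h2 : Group.IsSolvable (Matrix.ProjectiveSpecialLinearGroup (Fin 2) F) :=
    Group.isSolvable_of_isSolvable_injective (f := k.comp g) (hk.comp hg)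
  refine ClassicalGeometry.PSL2Solvable.not_isSolvable_psl F ?_ h2
  rw [hF]
  calc 4 ≤ 3 ^ 2 := by norm_num
    _ ≤ 3 ^ (2 * n + 1) := Nat.pow_le_pow_right (by norm_num) (by omega)

/-- the conclusion -/
def Concl (G : Type u) [Group G] : Prop :=
  (∃ (F : Type) (_ : Field F) (_ : Fintype F), 3 < Fintype.card F ∧
        Nonempty (G ≃* Matrix.ProjectiveSpecialLinearGroup (Fin 2) F)) ∨
      Cfsg.Lie.IsoSuzuki G ∨ Nonempty (G ≃* ↥(alternatingGroup (Fin 7))) ∨
      (∃ (F : Type) (_ : Field F) (_ : Fintype F), Fintype.card F = 4 ∧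
        Nonempty (G ≃* Matrix.ProjectiveSpecialLinearGroup (Fin 3) F))

/-- alternating groups -/
theorem Good.concl_alt {G : Type u} [Group G] [Finite G] {m : ℕ} (h : Good G m) {n : ℕ} (h5 : 5 ≤ n)
    (e : G ≃* ↥(alternatingGroup (Fin n))) : Concl G := by
  rcases Nat.lt_or_ge n 8 with h8 | h8
  · have h3 : n = 5 ∨ n = 6 ∨ n = 7 := by omega
    rcases h3 with rfl | rfl | rfl
    · haveI : Fact (Nat.Prime 2) := ⟨Nat.prime_two⟩
      letI : Fintype (GaloisField 2 2) := Fintype.ofFinite _
      have hc : Fintype.card (GaloisField 2 2) = 4 := by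
        rw [← Nat.card_eq_fintype_card, GaloisField.card 2 2 (by norm_num)]; norm_num
      obtain ⟨f⟩ := S0252.result (F := GaloisField 2 2) hc
      exact Or.inl ⟨GaloisField 2 2, inferInstance, inferInstance, by rw [hc]; norm_num, ⟨e.trans f.symm⟩⟩
    · haveI : Fact (Nat.Prime 3) := ⟨Nat.prime_three⟩
      letI : Fintype (GaloisField 3 2) := Fintype.ofFinite _
      have hc : Fintype.card (GaloisField 3 2) = 9 := by
        rw [← Nat.card_eq_fintype_card, GaloisField.card 3 2 (by norm_num)]; norm_num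
      obtain ⟨f⟩ := S0254.result (F := GaloisField 3 2) hc
      exact Or.inl ⟨GaloisField 3 2, inferInstance, inferInstance, by rw [hc]; norm_num, ⟨e.trans f.symm⟩⟩
    · exact Or.inr (Or.inr (Or.inl ⟨e⟩))
  · exfalso
    obtain ⟨f, hf⟩ := SylowL.Compare.exists_alt_hom h8
    obtain ⟨t, ht1, ht, hns⟩ := not_solvable_alt8 (e.symm.toMonoidHom.comp f) (e.symm.injective.comp hf)
    exact hns (h.solvable Nat.prime_three ht1 ht)

theorem npc_of_isPGroup {C : Type*} [Group C] [Finite C] (h : IsPGroup 2 C) : HasNormalPComplement 2 C := by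
  rw [Transfer.NormalPComplement.hasNormalPComplement_iff]
  refine ⟨⊥, inferInstance, by simp, ?_⟩
  exact h.to_quotient ⊥

/-- **Simple groups with property `Good`.** -/
theorem Good.concl {G : Type u} [Group G] [Finite G] [IsSimpleGroup G] (hG : ¬ IsMulCommutative G) {m : ℕ}
    (h : Good G m) : Concl G := by
  have hsol : ∀ t : G, orderOf t = 2 → Group.IsSolvable (cz t) := by
    intro t ht
    have ht1 : t ≠ 1 := by
      rintro rfl
      rw [orderOf_one] at ht; omega
    exact h.solvable Nat.prime_two ht1 (k := 1) (by rw [pow_one, ← ht]; exact pow_orderOf_eq_one t)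
  by_cases hcore : ∀ t : G, orderOf t = 2 → centralizerPPrimeCore 2 t = ⊥
  · have hcore' : ∀ t : G, orderOf t = 2 → pPrimeCore 2 ↥(cz t) = ⊥ := by
      intro t ht
      have h2 := hcore t ht
      unfold centralizerPPrimeCore at h2
      exact (Subgroup.map_eq_bot_iff_of_injective _ (Subgroup.subtype_injective _)).1 h2
    by_cases hcit : ∀ t : G, orderOf t = 2 → IsPGroup 2 (cz t)
    · exact S3214.result hG fun t ht => npc_of_isPGroup (hcit t ht)
    · push Not at hcit
      obtain ⟨t, ht, hnp⟩ := hcit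
      let S : Sylow 2 G := default
      have hS := h.sylow_comm hsol hcore' ht hnp S
      have hS' : IsMulCommutative ↥(S : Subgroup G) :=
        ⟨⟨fun a b => Subtype.ext (hS a a.2 b b.2)⟩⟩
      have hns : ¬ Group.IsSolvable G := by
        intro hs
        apply hG
        exact ⟨⟨IsSimpleGroup.comm_iff_isSolvable.2 hs⟩⟩
      rcases S3188.result S hS' hsol with h1 | ⟨F, i1, i2, hF, N, hN, ⟨e⟩, hNC⟩
      · exact absurd h1 hns
      · left
        have hodd : oddCore G = ⊥ := by
          have hn : (oddCore G).Normal := by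
            show (pPrimeCore 2 G).Normal
            infer_instance
          rcases hn.eq_bot_or_eq_top with h1 | h1
          · exact h1
          · exfalso
            have h2 : (Nat.card (pPrimeCore 2 G)).Coprime 2 := pPrimeCore_coprime 2
            have h3 : pPrimeCore 2 G = ⊤ := h1
            rw [h3, Subgroup.card_top] at h2
            have h4 : 2 ∣ Nat.card G := by rw [← ht]; exact orderOf_dvd_natCard t
            have := Nat.dvd_gcd h4 dvd_rfl
            rw [h2] at this
            omega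
        have e0 : (G ⧸ oddCore G) ≃* G := (QuotientGroup.quotientMulEquivOfEq hodd).trans QuotientGroup.quotientBot
        haveI : Nontrivial (G ⧸ oddCore G) := e0.toEquiv.nontrivial
        haveI : IsSimpleGroup (G ⧸ oddCore G) :=
          IsSimpleGroup.isSimpleGroup_of_surjective e0.symm.toMonoidHom e0.symm.surjective
        have hNt : N = ⊤ := by
          rcases hN.eq_bot_or_eq_top with h1 | h1
          · exfalso
            subst h1
            rw [coe_bot] at hNC
            have h2 : (centralizer ({1} : Set (G ⧸ oddCore G))) = ⊤ := by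
              rw [eq_top_iff]
              intro g _
              exact mem_centralizer_singleton_iff.mpr (by rw [mul_one, one_mul])
            rw [h2] at hNC
            exact (top_ne_bot hNC)
          · exact h1
        subst hNt
        refine ⟨F, i1, i2, ?_, ⟨(e0.symm.trans Subgroup.topEquiv.symm).trans e⟩⟩
        rcases hF with ⟨-, h5⟩ | ⟨n, hn, hn'⟩
        · omega
        · rw [hn']
          calc 3 < 2 ^ 2 := by norm_num
            _ ≤ 2 ^ n := Nat.pow_le_pow_right (by norm_num) hn
  · push Not at hcore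
    obtain ⟨t, ht, hcore⟩ := hcore
    have htop := GH.AltOut.fstar_eq_top hG
    have e0 : ↥(generalizedFittingSubgroup G) ≃* G :=
      (MulEquiv.subgroupCongr htop).trans Subgroup.topEquiv
    have hs : IsSimpleGroup ↥(generalizedFittingSubgroup G) := by
      haveI : Nontrivial ↥(generalizedFittingSubgroup G) := e0.toEquiv.nontrivial
      exact IsSimpleGroup.isSimpleGroup_of_surjective e0.symm.toMonoidHom e0.symm.surjective
    have hna : ¬ IsMulCommutative ↥(generalizedFittingSubgroup G) := by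
      intro h1
      apply hG
      refine ⟨⟨fun a b => ?_⟩⟩
      have h2 := mul_comm' (e0.symm a) (e0.symm b)
      rw [← map_mul, ← map_mul] at h2
      exact e0.symm.injective h2
    rcases S1311.result hs hna t ht hcore with h1 | ⟨n, hn, hn7, ⟨e⟩⟩ | ⟨F, i1, i2, hF, ⟨e⟩⟩ | h1
    · obtain ⟨p, hp, hp2, hL⟩ := h1
      have hL' : OddHalf.Iface.LieOdd G := ⟨p, hp, hp2, OddHalf.Known.isLieTypeChar_congr e0 hL⟩
      by_cases ha : IsAlternating G
      · obtain ⟨n, h5, ⟨e⟩⟩ := ha
        exact h.concl_alt h5 e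
      · rcases lieOdd_cases hL' ha with h1 | h1 | h1 | ⟨q, hq, h1⟩
        · obtain ⟨F, i1, i2, hF, he⟩ := h1
          exact Or.inl ⟨F, i1, i2, by rw [hF]; norm_num, he⟩
        · obtain ⟨F, i1, i2, -, hF, he⟩ := h1
          exact Or.inl ⟨F, i1, i2, by omega, he⟩
        · exact absurd h1 h.not_ree
        · exact absurd (hasLong_of_rk hq h1) (h.not_long hq.three_le)
    · exact h.concl_alt (by omega) (e0.symm.trans e)
    · exact Or.inr (Or.inr (Or.inr ⟨F, i1, i2, hF, ⟨e0.symm.trans e⟩⟩))
    · exfalso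
      obtain ⟨e⟩ := h1
      have h2 : Spor.IsoHe G := ⟨e0.symm.trans e⟩
      exact hcore ((CTwoTab.He.compC2_of_iso h2).bal t ht)

end Cfsg.Agent.H178.CType
end

-- part: H504/CentIdx
section
/-!
# Counting centralizer indices
-/

set_option autoImplicit false

namespace Cfsg.Agent.H504.CentIdx

variable {G : Type*} [Group G] [Finite G]

/-- If the numbers of the finite set `l` are orders of centralizers of noncentral elements, then there
are at least `|l|` indices of such centralizers. -/
theorem card_le (l : Finset ℕ)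
    (h : ∀ c ∈ l, ∃ x : G, x ∉ Subgroup.center G ∧
      Nat.card (Subgroup.centralizer ({x} : Set G)) = c) :
    l.card ≤ Set.ncard {k : ℕ | ∃ x : G, x ∉ Subgroup.center G ∧
      k = (Subgroup.centralizer ({x} : Set G)).index} := by
  have hfin : {k : ℕ | ∃ x : G, x ∉ Subgroup.center G ∧
      k = (Subgroup.centralizer ({x} : Set G)).index}.Finite := by
    refine (Set.finite_range (fun x : G => (Subgroup.centralizer ({x} : Set G)).index)).subset ?_
    rintro _ ⟨x, -, rfl⟩
    exact ⟨x, rfl⟩
  have hmul : ∀ c ∈ l, ∃ x : G, x ∉ Subgroup.center G ∧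
      Nat.card G / c = (Subgroup.centralizer ({x} : Set G)).index ∧ 0 < c ∧
      c * (Nat.card G / c) = Nat.card G := by
    intro c hc
    obtain ⟨x, hx, hxc⟩ := h c hc
    have h1 := (Subgroup.centralizer ({x} : Set G)).card_mul_index
    rw [hxc] at h1
    have h2 : 0 < c := by rw [← hxc]; exact Nat.card_pos
    refine ⟨x, hx, ?_, h2, ?_⟩
    · rw [← h1, Nat.mul_div_cancel_left _ h2]
    · exact Nat.mul_div_cancel' ⟨_, h1.symm⟩
  rw [← Set.ncard_coe_finset]
  refine Set.ncard_le_ncard_of_injOn (fun c => Nat.card G / c) ?_ ?_ hfin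
  · intro c hc
    obtain ⟨x, hx, hxc, -, -⟩ := hmul c hc
    exact ⟨x, hx, hxc⟩
  · intro c hc d hd hcd
    obtain ⟨-, -, -, h1, h2⟩ := hmul c hc
    obtain ⟨-, -, -, h3, h4⟩ := hmul d hd
    have h5 : Nat.card G / c = Nat.card G / d := hcd
    rw [← h5] at h4
    have h6 : 0 < Nat.card G / c := by
      rcases Nat.eq_zero_or_pos (Nat.card G / c) with h7 | h7
      · rw [h7, mul_zero] at h2
        exact absurd h2.symm Nat.card_pos.ne'
      · exact h7
    exact Nat.eq_of_mul_eq_mul_right h6 (h2.trans h4.symm)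

omit [Finite G] in
/-- orders of centralizers are invariant under isomorphisms -/
theorem card_centralizer_equiv {H : Type*} [Group H] (e : G ≃* H) (x : G) :
    Nat.card (Subgroup.centralizer ({e x} : Set H)) =
      Nat.card (Subgroup.centralizer ({x} : Set G)) := by
  have h : Subgroup.centralizer ({e x} : Set H) =
      (Subgroup.centralizer ({x} : Set G)).map e.toMonoidHom := by
    ext y
    constructor
    · intro hy
      refine ⟨e.symm y, ?_, by simp⟩
      rw [SetLike.mem_coe, Subgroup.mem_centralizer_singleton_iff] at *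
      apply e.injective
      simpa only [_root_.map_mul, _root_.MulEquiv.apply_symm_apply] using hy
    · rintro ⟨z, hz, rfl⟩
      rw [SetLike.mem_coe, Subgroup.mem_centralizer_singleton_iff] at *
      have := congrArg e hz
      simpa only [_root_.MulEquiv.toMonoidHom_eq_coe, _root_.MonoidHom.coe_coe, _root_.map_mul] using this
  rw [h]
  exact (Nat.card_congr ((Subgroup.centralizer ({x} : Set G)).equivMapOfInjective e.toMonoidHom
    e.injective).toEquiv).symm

end Cfsg.Agent.H504.CentIdx
end

-- part: H504/SzFive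
section
/-!
# Suzuki groups have at least five noncentral class sizes
-/

set_option autoImplicit false

namespace Cfsg.Agent.H504.SzFive

open Cfsg.Agent Cfsg.Agent.ThreePrime Cfsg.Agent.H504.CentIdx

theorem aux {F : Type*} [Field F] [Fintype F] {m : ℕ} (hm : 1 ≤ m)
    (hF : Fintype.card F = 2 ^ (2 * m + 1)) {J : Type*} [Group J] [Finite J] (R : SzRel.Rel J F)
    (e : ↥(Cfsg.Sz F m) ≃* J) :
    5 ≤ Set.ncard {k : ℕ | ∃ x : J, x ∉ Subgroup.center J ∧
      k = (Subgroup.centralizer ({x} : Set J)).index} := by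
  classical
  have hcardF : Nat.card F = 2 ^ (2 * m + 1) := by rw [Nat.card_eq_fintype_card, hF]
  have h8 : 8 ≤ Nat.card F := by
    rw [hcardF]; exact SzRel.Rel.eight_le hm
  have hcen : ∀ x : J, x ≠ 1 → x ∉ Subgroup.center J := by
    intro x hx hxc
    exact hx (R.center_trivial fun y => (Subgroup.mem_center_iff.mp hxc y).symm)
  -- `u 0 1`
  have hT1 : Subgroup.centralizer ({R.u 0 1} : Set J) = R.T := by
    ext g
    rw [Subgroup.mem_centralizer_singleton_iff]
    constructor
    · intro h
      exact R.mem_T_of_comm (R.u_mem 0 1) (R.u_ne_one one_ne_zero) h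
    · intro h
      exact (R.Z_central (R.u_zero_mem_Z 1) h).symm
  have hcT : Nat.card R.T = Nat.card F * Nat.card F := R.card_T
  -- `u 1 0`
  have hu1 : R.u 1 0 ≠ 1 := by
    intro h
    rw [← R.u_zero] at h
    exact one_ne_zero (R.u_inj h).1
  have hT2 : Subgroup.centralizer ({R.u 1 0} : Set J) < R.T := by
    refine lt_of_le_of_ne ?_ ?_
    · intro g hg
      rw [Subgroup.mem_centralizer_singleton_iff] at hg
      exact R.mem_T_of_comm (R.u_mem 1 0) hu1 hg
    · intro h
      obtain ⟨x, hx⟩ := R.exists_theta_ne h8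
      have h1 : R.u x 0 ∈ Subgroup.centralizer ({R.u 1 0} : Set J) := by
        rw [h]; exact R.u_mem x 0
      rw [Subgroup.mem_centralizer_singleton_iff, R.comm_iff, map_one] at h1
      apply hx
      rw [mul_one, one_mul] at h1
      exact h1.symm
  have hc2lt : Nat.card (Subgroup.centralizer ({R.u 1 0} : Set J)) < Nat.card F * Nat.card F := by
    rw [← hcT]
    refine lt_of_le_of_ne (Subgroup.card_le_of_le hT2.le) ?_
    intro h
    exact hT2.ne (Subgroup.eq_of_le_of_card_ge hT2.le h.ge)
  have hc2even : 2 ∣ Nat.card (Subgroup.centralizer ({R.u 1 0} : Set J)) := by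
    have h1 : R.u 0 1 ∈ Subgroup.centralizer ({R.u 1 0} : Set J) := by
      rw [Subgroup.mem_centralizer_singleton_iff]
      exact R.Z_central (R.u_zero_mem_Z 1) (R.u_mem 1 0)
    have h2 : orderOf (R.u 0 1) = 2 :=
      orderOf_eq_prime (by rw [pow_two]; exact (R.u_sq_iff 0 1).2 rfl)
        (R.u_ne_one one_ne_zero)
    have h3 := Subgroup.orderOf_dvd_natCard _ h1
    rwa [h2] at h3
  -- `d k`
  obtain ⟨k, hk⟩ : ∃ k : Fˣ, k ≠ 1 := by
    obtain ⟨x, hx⟩ := R.exists_theta_ne h8
    have hx0 : x ≠ 0 := by rintro rfl; exact hx (map_zero _)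
    refine ⟨Units.mk0 x hx0, ?_⟩
    intro h
    have : x = 1 := by
      have := congrArg (fun u : Fˣ => (u : F)) h
      simpa using this
    rw [this, map_one] at hx
    exact hx rfl
  have hdk : R.d k ≠ 1 := by
    intro h
    rw [← R.d_one] at h
    exact hk (R.d_inj h)
  have hcD : Subgroup.centralizer ({R.d k} : Set J) = R.D := by
    ext g
    rw [Subgroup.mem_centralizer_singleton_iff]
    constructor
    · intro h
      exact R.cent_d hk h
    · rintro ⟨l, rfl⟩
      rw [R.d_mul, R.d_mul, mul_comm]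
  have hcardD : Nat.card R.D = Nat.card F - 1 := R.card_D
  -- the cyclic tori
  have htor : ∀ c ∈ ({2 ^ (2 * m + 1) + 2 ^ (m + 1) + 1, 2 ^ (2 * m + 1) - 2 ^ (m + 1) + 1} : Set ℕ),
      1 < c → ∃ x : J, x ≠ 1 ∧ Nat.card (Subgroup.centralizer ({x} : Set J)) = c := by
    intro c hc hc1
    obtain ⟨U, -, hU, hUc, -⟩ := S0333.result hm hF c hc
    have hnt : Nontrivial U := by
      rw [← Finite.one_lt_card_iff_nontrivial, hU]; exact hc1
    obtain ⟨⟨u, hu⟩, hu1⟩ := exists_ne (1 : U)
    have hu1' : u ≠ 1 := fun h => hu1 (Subtype.ext h)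
    refine ⟨e u, ?_, ?_⟩
    · intro h
      apply hu1'
      exact e.injective (h.trans (map_one e).symm)
    · rw [card_centralizer_equiv e u, hUc u hu hu1', hU]
  have hq : 2 ^ (m + 1) < 2 ^ (2 * m + 1) := Nat.pow_lt_pow_right (by norm_num) (by omega)
  have hq4 : 4 ≤ 2 ^ (m + 1) := by
    calc 4 = 2 ^ 2 := by norm_num
      _ ≤ 2 ^ (m + 1) := Nat.pow_le_pow_right (by norm_num) (by omega)
  have hqe : 2 ∣ 2 ^ (2 * m + 1) := dvd_pow_self 2 (by omega)
  have hre : 2 ∣ 2 ^ (m + 1) := dvd_pow_self 2 (by omega)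
  obtain ⟨x4, hx4, hc4⟩ := htor _ (Or.inl rfl) (by (clear * - hcardF hq4; omega))
  obtain ⟨x5, hx5, hc5⟩ := htor _ (Or.inr rfl) (by (clear * - hq; omega))
  rw [hcardF] at hcT hc2lt hcardD h8
  clear htor
  generalize 2 ^ (2 * m + 1) = q at *
  generalize 2 ^ (m + 1) = r at *
  obtain ⟨c2, hc2def⟩ : ∃ c, c = Nat.card (Subgroup.centralizer ({R.u 1 0} : Set J)) := ⟨_, rfl⟩
  rw [← hc2def] at hc2lt hc2even
  have hqq : 2 ∣ q * q := Dvd.dvd.mul_right hqe q
  have hqq2 : 8 * q ≤ q * q := Nat.mul_le_mul_right q h8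
  have hl : ({q * q, c2, q - 1, q + r + 1, q - r + 1} : Finset ℕ).card = 5 := by
    have h1 : q * q ∉ ({c2, q - 1, q + r + 1, q - r + 1} : Finset ℕ) := by
      simp only [Finset.mem_insert, Finset.mem_singleton, not_or]
      refine ⟨?_, ?_, ?_, ?_⟩ <;> (clear * - hc2lt hqe hq hqq hre; omega)
    have h2 : c2 ∉ ({q - 1, q + r + 1, q - r + 1} : Finset ℕ) := by
      simp only [Finset.mem_insert, Finset.mem_singleton, not_or]
      refine ⟨?_, ?_, ?_⟩ <;> (clear * - hqe hq hc2even hre; omega)
    have h3 : q - 1 ∉ ({q + r + 1, q - r + 1} : Finset ℕ) := by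
      simp only [Finset.mem_insert, Finset.mem_singleton, not_or]
      refine ⟨?_, ?_⟩ <;> (clear * - hq4 hq; omega)
    have h4 : q + r + 1 ∉ ({q - r + 1} : Finset ℕ) := by
      simp only [Finset.mem_singleton]
      (clear * - hq4; omega)
    rw [Finset.card_insert_of_notMem h1, Finset.card_insert_of_notMem h2,
      Finset.card_insert_of_notMem h3, Finset.card_insert_of_notMem h4, Finset.card_singleton]
  rw [← hl]
  refine card_le _ ?_
  intro c hc
  simp only [Finset.mem_insert, Finset.mem_singleton] at hc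
  rcases hc with rfl | rfl | rfl | rfl | rfl
  · exact ⟨R.u 0 1, hcen _ (R.u_ne_one one_ne_zero), by rw [hT1]; exact hcT⟩
  · exact ⟨R.u 1 0, hcen _ hu1, hc2def.symm⟩
  · exact ⟨R.d k, hcen _ hdk, by rw [hcD]; exact hcardD⟩
  · exact ⟨x4, hcen _ hx4, hc4⟩
  · exact ⟨x5, hcen _ hx5, hc5⟩

theorem sz_five {F : Type} [Field F] [Fintype F] {m : ℕ} (hm : 1 ≤ m)
    (hF : Fintype.card F = 2 ^ (2 * m + 1)) :
    5 ≤ Set.ncard {k : ℕ | ∃ x : ↥(Cfsg.Lie.Sz F (2 ^ (m + 1))),
      x ∉ Subgroup.center (↥(Cfsg.Lie.Sz F (2 ^ (m + 1)))) ∧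
      k = (Subgroup.centralizer ({x} : Set (↥(Cfsg.Lie.Sz F (2 ^ (m + 1)))))).index} := by
  obtain ⟨e⟩ := OddCyclic.ClaimC.SzIso.iso (F := F) hm hF
  exact aux hm hF (SzRel.ofGood (LieRecognition.SzMatrix.good hF)) e

end Cfsg.Agent.H504.SzFive
end

-- part: H805/LThreeFour
section
namespace Cfsg.Agent.H805.LThreeFour

open Matrix

/-- A concrete model of the field with four elements. -/
inductive M4 : Type
  | z | o | w | v
  deriving DecidableEq

instance : Fintype M4 := ⟨{M4.z, M4.o, M4.w, M4.v}, by intro x; cases x <;> decide⟩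

namespace M4

def add : M4 → M4 → M4
  | z, a => a
  | a, z => a
  | o, o => z
  | w, w => z
  | v, v => z
  | o, w => v
  | w, o => v
  | o, v => w
  | v, o => w
  | w, v => o
  | v, w => o

def mul : M4 → M4 → M4
  | z, _ => z
  | _, z => z
  | o, a => a
  | a, o => a
  | w, w => v
  | v, v => w
  | w, v => o
  | v, w => o

def inv : M4 → M4
  | z => z
  | o => o
  | w => v
  | v => w

instance : Zero M4 := ⟨z⟩
instance : One M4 := ⟨o⟩
instance : Add M4 := ⟨add⟩
instance : Mul M4 := ⟨mul⟩
instance : Neg M4 := ⟨id⟩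
instance : Inv M4 := ⟨inv⟩

instance : CommRing M4 where
  add_assoc := by decide +kernel
  zero_add := by decide
  add_zero := by decide
  add_comm := by decide
  mul_assoc := by decide
  one_mul := by decide
  mul_one := by decide
  mul_comm := by decide
  left_distrib := by decide
  right_distrib := by decide +kernel
  zero_mul := by decide
  mul_zero := by decide
  neg_add_cancel := by decide
  nsmul := nsmulRec
  zsmul := zsmulRec

instance : Field M4 where
  inv := inv
  exists_pair_ne := ⟨z, o, by decide⟩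
  mul_inv_cancel := by decide
  inv_zero := by decide
  nnqsmul := _
  nnqsmul_def := fun _ _ => rfl
  qsmul := _
  qsmul_def := fun _ _ => rfl

theorem card_eq : Fintype.card M4 = 4 := by decide

end M4

/-- The shape of a centralizer, from a parametrisation. -/
theorem card_cent_of_param {P : Type} (X : SpecialLinearGroup (Fin 3) M4)
    (f : P → Matrix (Fin 3) (Fin 3) M4) (hdet : ∀ p, (f p).det = 1)
    (hcomm : ∀ p, f p * X.1 = X.1 * f p) (hinj : Function.Injective f)
    (hsurj : ∀ g : Matrix (Fin 3) (Fin 3) M4, g.det = 1 → g * X.1 = X.1 * g → ∃ p, f p = g) :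
    Nat.card (Subgroup.centralizer ({X} : Set (SpecialLinearGroup (Fin 3) M4))) =
      Nat.card P := by
  let F : P → Subgroup.centralizer ({X} : Set (SpecialLinearGroup (Fin 3) M4)) := fun p =>
    ⟨(⟨f p, hdet p⟩ : SpecialLinearGroup (Fin 3) M4), 
      Subgroup.mem_centralizer_iff.mpr (by
        intro h hh
        rw [Set.mem_singleton_iff] at hh
        subst hh
        exact Subtype.ext (hcomm p).symm)⟩
  have hF : ∀ p, (F p).1.1 = f p := fun p => rfl
  symm
  refine Nat.card_eq_of_bijective F ⟨?_, ?_⟩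
  · intro p q hpq
    apply hinj
    rw [← hF p, ← hF q, hpq]
  · rintro ⟨g, hg⟩
    have hg2 := Subgroup.mem_centralizer_iff.mp hg X rfl
    have := congrArg Subtype.val hg2
    obtain ⟨p, hp⟩ := hsurj g.1 g.2 this.symm
    refine ⟨p, ?_⟩
    apply Subtype.ext
    apply Subtype.ext
    exact hp

/-! ### The four semiregular elements -/

def m1 (p : M4 × M4 × M4 × M4) : Matrix (Fin 3) (Fin 3) M4 :=
  !![p.1, p.2.1, p.2.2.1; 0, p.1, p.2.2.2; 0, 0, p.1]

def X1 : SpecialLinearGroup (Fin 3) M4 :=
  ⟨!![1, 0, 1; 0, 1, 0; 0, 0, 1], by simp [det_fin_three]⟩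

theorem aux1 : ∀ a b : M4, a * b * a = 1 → b = a ∧ a * a * a = 1 := by decide

theorem cent1 : Nat.card (Subgroup.centralizer ({X1} : Set (SpecialLinearGroup (Fin 3) M4))) =
    192 := by
  rw [card_cent_of_param (P := {p : M4 × M4 × M4 × M4 // p.1 * p.1 * p.1 = 1}) X1
    (fun p => m1 p.1)]
  · rw [Nat.card_eq_fintype_card]
    decide +kernel
  · rintro ⟨⟨a, b, c, d⟩, h⟩
    simpa only [m1, det_fin_three, _root_.Fin.isValue, _root_.Matrix.of_apply, _root_.Matrix.cons_val', _root_.Matrix.cons_val_zero, _root_.Matrix.cons_val_fin_one, _root_.Matrix.cons_val_one, _root_.Matrix.cons_val, _root_.MulZeroClass.mul_zero, _root_.sub_zero, _root_.MulZeroClass.zero_mul, _root_.add_zero] using h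
  · rintro ⟨⟨a, b, c, d⟩, h⟩
    ext i j
    (simp only [m1, X1, Cfsg.Agent.Lib.MatLit.p3]; revert i j; simp only [Cfsg.Agent.Lib.MatLit.one3, Cfsg.Agent.Lib.MatLit.zero3, Cfsg.Agent.Lib.MatLit.ext3]; and_intros) <;> simp [m1, X1, Matrix.mul_apply, Fin.sum_univ_three, add_comm]
  · rintro ⟨⟨a, b, c, d⟩, h⟩ ⟨⟨a', b', c', d'⟩, h'⟩ hh
    have e1 := congrFun (congrFun hh 0) 0
    have e2 := congrFun (congrFun hh 0) 1
    have e3 := congrFun (congrFun hh 0) 2
    have e4 := congrFun (congrFun hh 1) 2
    simp [m1] at e1 e2 e3 e4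
    simp [e1, e2, e3, e4]
  · intro g hg hc
    have c00 := congrFun (congrFun hc 0) 0
    have c01 := congrFun (congrFun hc 0) 1
    have c02 := congrFun (congrFun hc 0) 2
    have c12 := congrFun (congrFun hc 1) 2
    simp only [X1, Matrix.mul_apply, Fin.sum_univ_three, _root_.Cfsg.Agent.H805.LThreeFour.X1, _root_.Fin.isValue, _root_.Matrix.mul_apply, _root_.Matrix.of_apply, _root_.Matrix.cons_val', _root_.Matrix.cons_val_zero, _root_.Matrix.cons_val_fin_one, _root_.Fin.sum_univ_three, _root_.mul_one, _root_.Matrix.cons_val_one, _root_.MulZeroClass.mul_zero, _root_.add_zero, _root_.Matrix.cons_val, _root_.one_mul, _root_.MulZeroClass.zero_mul, _root_.left_eq_add, _root_.zero_add, _root_.add_eq_right] at c00 c01 c02 c12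
    have h22 : g 2 2 = g 0 0 := by linear_combination -c02
    rw [det_fin_three, c00, c01, c12, h22] at hg
    simp only [mul_zero, zero_mul, sub_zero, add_zero] at hg
    obtain ⟨h11, h3⟩ := aux1 _ _ hg
    refine ⟨⟨(g 0 0, g 0 1, g 0 2, g 1 2), h3⟩, ?_⟩
    ext i j
    (revert i j; simp only [m1, c00, c01, c12, h11, h22, _root_.Fin.forall_fin_succ, Fin.isValue, _root_.Matrix.of_apply, _root_.Matrix.cons_val', _root_.Matrix.cons_val_fin_one, _root_.Matrix.cons_val_zero, _root_.Matrix.cons_val_succ, _root_.Fin.succ_zero_eq_one, _root_.Fin.succ_one_eq_two, _root_.IsEmpty.forall_iff, _root_.and_true, _root_.and_self])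

def m2 (p : M4 × M4 × M4) : Matrix (Fin 3) (Fin 3) M4 :=
  !![p.1, p.2.1, p.2.2; 0, p.1, p.2.1; 0, 0, p.1]

def X2 : SpecialLinearGroup (Fin 3) M4 :=
  ⟨!![1, 1, 0; 0, 1, 1; 0, 0, 1], by simp [det_fin_three]⟩

theorem cent2 : Nat.card (Subgroup.centralizer ({X2} : Set (SpecialLinearGroup (Fin 3) M4))) =
    48 := by
  rw [card_cent_of_param (P := {p : M4 × M4 × M4 // p.1 * p.1 * p.1 = 1}) X2
    (fun p => m2 p.1)]
  · rw [Nat.card_eq_fintype_card]
    decide +kernel
  · rintro ⟨⟨a, b, c⟩, h⟩
    simpa only [m2, det_fin_three, _root_.Fin.isValue, _root_.Matrix.of_apply, _root_.Matrix.cons_val', _root_.Matrix.cons_val_zero, _root_.Matrix.cons_val_fin_one, _root_.Matrix.cons_val_one, _root_.Matrix.cons_val, _root_.MulZeroClass.mul_zero, _root_.sub_zero, _root_.MulZeroClass.zero_mul, _root_.add_zero] using h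
  · rintro ⟨⟨a, b, c⟩, h⟩
    ext i j
    (simp only [m2, X2, Cfsg.Agent.Lib.MatLit.p3]; revert i j; simp only [Cfsg.Agent.Lib.MatLit.one3, Cfsg.Agent.Lib.MatLit.zero3, Cfsg.Agent.Lib.MatLit.ext3]; and_intros) <;> simp [m2, X2, Matrix.mul_apply, Fin.sum_univ_three, add_comm]
  · rintro ⟨⟨a, b, c⟩, h⟩ ⟨⟨a', b', c'⟩, h'⟩ hh
    have e1 := congrFun (congrFun hh 0) 0
    have e2 := congrFun (congrFun hh 0) 1
    have e3 := congrFun (congrFun hh 0) 2
    simp [m2] at e1 e2 e3
    simp [e1, e2, e3]
  · intro g hg hc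
    have c00 := congrFun (congrFun hc 0) 0
    have c01 := congrFun (congrFun hc 0) 1
    have c02 := congrFun (congrFun hc 0) 2
    have c10 := congrFun (congrFun hc 1) 0
    have c11 := congrFun (congrFun hc 1) 1
    have c12 := congrFun (congrFun hc 1) 2
    have c20 := congrFun (congrFun hc 2) 0
    have c21 := congrFun (congrFun hc 2) 1
    have c22 := congrFun (congrFun hc 2) 2
    simp only [X2, Matrix.mul_apply, Fin.sum_univ_three, _root_.Cfsg.Agent.H805.LThreeFour.X2, _root_.Fin.isValue, _root_.Matrix.mul_apply, _root_.Matrix.of_apply, _root_.Matrix.cons_val', _root_.Matrix.cons_val_zero, _root_.Matrix.cons_val_fin_one, _root_.Fin.sum_univ_three, _root_.mul_one, _root_.Matrix.cons_val_one, _root_.MulZeroClass.mul_zero, _root_.add_zero, _root_.Matrix.cons_val, _root_.one_mul, _root_.MulZeroClass.zero_mul, _root_.left_eq_add, _root_.zero_add, _root_.add_eq_right] at c00 c01 c02 c10 c11 c12 c20 c21 c22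
    have h11 : g 1 1 = g 0 0 := by linear_combination -c01
    have h12 : g 1 2 = g 0 1 := by linear_combination -c02
    have h22 : g 2 2 = g 0 0 := by linear_combination -c12 - c01
    rw [det_fin_three, c00, c10, c22, h11, h12, h22] at hg
    simp only [mul_zero, zero_mul, sub_zero, add_zero] at hg
    refine ⟨⟨(g 0 0, g 0 1, g 0 2), hg⟩, ?_⟩
    ext i j
    (revert i j; simp only [m2, c00, c10, c22, h11, h12, h22, _root_.Fin.forall_fin_succ, Fin.isValue, _root_.Matrix.of_apply, _root_.Matrix.cons_val', _root_.Matrix.cons_val_fin_one, _root_.Matrix.cons_val_zero, _root_.Matrix.cons_val_succ, _root_.Fin.succ_zero_eq_one, _root_.Fin.succ_one_eq_two, _root_.IsEmpty.forall_iff, _root_.and_true, _root_.and_self])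

def m7 (p : M4 × M4 × M4) : Matrix (Fin 3) (Fin 3) M4 :=
  !![p.1, p.2.2, p.2.1 + p.2.2; p.2.1, p.1, p.2.2; p.2.2, p.2.1 + p.2.2, p.1 + p.2.1 + p.2.2]

def X7 : SpecialLinearGroup (Fin 3) M4 :=
  ⟨!![0, 0, 1; 1, 0, 0; 0, 1, 1], by simp [det_fin_three]⟩

def n7 (p : M4 × M4 × M4) : M4 :=
  p.1 * p.1 * (p.1 + p.2.1 + p.2.2) - p.1 * p.2.2 * (p.2.1 + p.2.2) -
    p.2.2 * p.2.1 * (p.1 + p.2.1 + p.2.2) + p.2.2 * p.2.2 * p.2.2 +
    (p.2.1 + p.2.2) * p.2.1 * (p.2.1 + p.2.2) - (p.2.1 + p.2.2) * p.1 * p.2.2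

theorem det7 (p : M4 × M4 × M4) : (m7 p).det = n7 p := by
  rw [det_fin_three]
  simp only [m7, n7, _root_.Cfsg.Agent.H805.LThreeFour.m7, _root_.Fin.isValue, _root_.Matrix.of_apply, _root_.Matrix.cons_val', _root_.Matrix.cons_val_zero, _root_.Matrix.cons_val_fin_one, _root_.Matrix.cons_val_one, _root_.Matrix.cons_val, _root_.Cfsg.Agent.H805.LThreeFour.n7]

theorem cent7 : Nat.card (Subgroup.centralizer ({X7} : Set (SpecialLinearGroup (Fin 3) M4))) =
    21 := by
  rw [card_cent_of_param (P := {p : M4 × M4 × M4 // n7 p = 1}) X7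
    (fun p => m7 p.1)]
  · rw [Nat.card_eq_fintype_card]
    decide +kernel
  · rintro ⟨⟨a, b, c⟩, h⟩
    rw [det7]; exact h
  · rintro ⟨⟨a, b, c⟩, h⟩
    ext i j
    (simp only [m7, X7, Cfsg.Agent.Lib.MatLit.p3]; revert i j; simp only [Cfsg.Agent.Lib.MatLit.one3, Cfsg.Agent.Lib.MatLit.zero3, Cfsg.Agent.Lib.MatLit.ext3]; and_intros) <;> simp [m7, X7, Matrix.mul_apply, Fin.sum_univ_three, add_comm, add_left_comm]
  · rintro ⟨⟨a, b, c⟩, h⟩ ⟨⟨a', b', c'⟩, h'⟩ hh
    have e1 := congrFun (congrFun hh 0) 0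
    have e2 := congrFun (congrFun hh 1) 0
    have e3 := congrFun (congrFun hh 2) 0
    simp [m7] at e1 e2 e3
    simp [e1, e2, e3]
  · intro g hg hc
    have c00 := congrFun (congrFun hc 0) 0
    have c01 := congrFun (congrFun hc 0) 1
    have c10 := congrFun (congrFun hc 1) 0
    have c11 := congrFun (congrFun hc 1) 1
    have c20 := congrFun (congrFun hc 2) 0
    have c21 := congrFun (congrFun hc 2) 1
    simp only [X7, Matrix.mul_apply, Fin.sum_univ_three, _root_.Cfsg.Agent.H805.LThreeFour.X7, _root_.Fin.isValue, _root_.Matrix.mul_apply, _root_.Matrix.of_apply, _root_.Matrix.cons_val', _root_.Matrix.cons_val_zero, _root_.Matrix.cons_val_fin_one, _root_.Fin.sum_univ_three, _root_.MulZeroClass.mul_zero, _root_.Matrix.cons_val_one, _root_.mul_one, _root_.zero_add, _root_.Matrix.cons_val, _root_.add_zero, _root_.MulZeroClass.zero_mul, _root_.one_mul] at c00 c01 c10 c11 c20 c21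
    have h02 : g 0 2 = g 1 0 + g 2 0 := by linear_combination c01 + c20
    have h12 : g 1 2 = g 2 0 := by linear_combination c11 + c00
    have h22 : g 2 2 = g 0 0 + g 1 0 + g 2 0 := by linear_combination c21 + c10 + c20
    have hgm : m7 (g 0 0, g 1 0, g 2 0) = g := by
      ext i j
      (revert i j; simp only [m7, c00, c10, c20, h02, h12, h22, _root_.Fin.forall_fin_succ, Fin.isValue, _root_.Matrix.of_apply, _root_.Matrix.cons_val', _root_.Matrix.cons_val_fin_one, _root_.Matrix.cons_val_zero, _root_.Matrix.cons_val_succ, _root_.Fin.succ_zero_eq_one, _root_.Fin.succ_one_eq_two, _root_.IsEmpty.forall_iff, _root_.and_true, _root_.and_self])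
    refine ⟨⟨(g 0 0, g 1 0, g 2 0), ?_⟩, hgm⟩
    rw [← det7, hgm, hg]

def m5 (p : M4 × M4 × M4) : Matrix (Fin 3) (Fin 3) M4 :=
  !![p.1, 0, 0; 0, p.2.1, p.2.2; 0, p.2.2, p.2.1 + M4.w * p.2.2]

def X5 : SpecialLinearGroup (Fin 3) M4 :=
  ⟨!![1, 0, 0; 0, 0, 1; 0, 1, M4.w], by
    rw [det_fin_three]
    decide⟩

def n5 (p : M4 × M4 × M4) : M4 :=
  p.1 * p.2.1 * (p.2.1 + M4.w * p.2.2) - p.1 * p.2.2 * p.2.2

theorem det5 (p : M4 × M4 × M4) : (m5 p).det = n5 p := by
  rw [det_fin_three]
  simp [m5, n5]

theorem w_mul : ∀ a : M4, M4.w * a = 0 → a = 0 := by decide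

theorem cent5 : Nat.card (Subgroup.centralizer ({X5} : Set (SpecialLinearGroup (Fin 3) M4))) =
    15 := by
  rw [card_cent_of_param (P := {p : M4 × M4 × M4 // n5 p = 1}) X5
    (fun p => m5 p.1)]
  · rw [Nat.card_eq_fintype_card]
    decide +kernel
  · rintro ⟨⟨a, b, c⟩, h⟩
    rw [det5]; exact h
  · rintro ⟨⟨a, b, c⟩, h⟩
    ext i j
    (simp only [m5, X5, Cfsg.Agent.Lib.MatLit.p3]; revert i j; simp only [Cfsg.Agent.Lib.MatLit.one3, Cfsg.Agent.Lib.MatLit.zero3, Cfsg.Agent.Lib.MatLit.ext3]; and_intros) <;> simp [m5, X5, Matrix.mul_apply, Fin.sum_univ_three, add_comm] <;> ring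
  · rintro ⟨⟨a, b, c⟩, h⟩ ⟨⟨a', b', c'⟩, h'⟩ hh
    have e1 := congrFun (congrFun hh 0) 0
    have e2 := congrFun (congrFun hh 1) 1
    have e3 := congrFun (congrFun hh 1) 2
    simp [m5] at e1 e2 e3
    simp [e1, e2, e3]
  · intro g hg hc
    have c00 := congrFun (congrFun hc 0) 0
    have c01 := congrFun (congrFun hc 0) 1
    have c02 := congrFun (congrFun hc 0) 2
    have c10 := congrFun (congrFun hc 1) 0
    have c11 := congrFun (congrFun hc 1) 1
    have c12 := congrFun (congrFun hc 1) 2
    have c20 := congrFun (congrFun hc 2) 0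
    have c21 := congrFun (congrFun hc 2) 1
    have c22 := congrFun (congrFun hc 2) 2
    simp only [X5, Matrix.mul_apply, Fin.sum_univ_three, _root_.Cfsg.Agent.H805.LThreeFour.X5, _root_.Fin.isValue, _root_.Matrix.mul_apply, _root_.Matrix.of_apply, _root_.Matrix.cons_val', _root_.Matrix.cons_val_zero, _root_.Matrix.cons_val_fin_one, _root_.Fin.sum_univ_three, _root_.mul_one, _root_.Matrix.cons_val_one, _root_.MulZeroClass.mul_zero, _root_.add_zero, _root_.Matrix.cons_val, _root_.one_mul, _root_.MulZeroClass.zero_mul, _root_.zero_add] at c00 c01 c02 c10 c11 c12 c20 c21 c22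
    have h01 : g 0 1 = 0 := w_mul _ (by linear_combination c02 + c01 - M4.w * c01)
    have h02 : g 0 2 = 0 := by rw [c01, h01]
    have h20 : g 2 0 = 0 := w_mul _ (by linear_combination -c10 - c20)
    have h10 : g 1 0 = 0 := by rw [c10, h20]
    have hgm : m5 (g 0 0, g 1 1, g 1 2) = g := by
      ext i j
      (revert i j; simp only [m5, h01, h02, h20, h10, ← c12, ← c11, mul_comm, _root_.Fin.forall_fin_succ, Fin.isValue, _root_.Matrix.of_apply, _root_.Matrix.cons_val', _root_.Matrix.cons_val_fin_one, _root_.Matrix.cons_val_zero, _root_.Matrix.cons_val_succ, _root_.Fin.succ_zero_eq_one, _root_.Fin.succ_one_eq_two, _root_.IsEmpty.forall_iff, _root_.and_true, _root_.and_self])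
    refine ⟨⟨(g 0 0, g 1 1, g 1 2), ?_⟩, hgm⟩
    rw [← det5, hgm, hg]

/-! ### Passage to the quotient -/

theorem tr_lemma (g gi x : Matrix (Fin 3) (Fin 3) M4) (r : M4) (h : g * x = (x * g) * scalar (Fin 3) r)
    (h1 : g * gi = 1) : x.trace = r * x.trace := by
  have h2 : gi * g = 1 := mul_eq_one_comm.mp h1
  have h3 : g * x * gi = r • x := by
    rw [h, ← (scalar_commute r (fun _ => mul_comm _ _) (x * g)).eq, scalar_apply,
      ← smul_eq_diagonal_mul, Matrix.smul_mul, Matrix.mul_assoc, h1, mul_one]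
  have h4 := congrArg trace h3
  rw [trace_mul_cycle, trace_smul, h2, one_mul, smul_eq_mul] at h4
  exact h4

theorem comm_iff (X : SpecialLinearGroup (Fin 3) M4) (htr : X.1.trace ≠ 0)
    (g : SpecialLinearGroup (Fin 3) M4) :
    (QuotientGroup.mk g : ProjectiveSpecialLinearGroup (Fin 3) M4) ∈
      Subgroup.centralizer ({(QuotientGroup.mk X : ProjectiveSpecialLinearGroup (Fin 3) M4)} :
      Set (ProjectiveSpecialLinearGroup (Fin 3) M4)) ↔
    g ∈ Subgroup.centralizer ({X} : Set (SpecialLinearGroup (Fin 3) M4)) := by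
  rw [Subgroup.mem_centralizer_iff, Subgroup.mem_centralizer_iff]
  constructor
  · intro h x hx
    rw [Set.mem_singleton_iff] at hx
    subst hx
    have h1 := h _ rfl
    have h2 : (QuotientGroup.mk (x * g) : ProjectiveSpecialLinearGroup (Fin 3) M4) =
        QuotientGroup.mk (g * x) := h1
    rw [QuotientGroup.eq] at h2
    obtain ⟨r, hr, hr2⟩ := Matrix.SpecialLinearGroup.mem_center_iff.mp h2
    have h3 : g * x = (x * g) * ((x * g)⁻¹ * (g * x)) := by group
    have h4 : g.1 * x.1 = (x.1 * g.1) * scalar (Fin 3) r := by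
      rw [hr2]
      exact congrArg Subtype.val h3
    have h6 := tr_lemma g.1 g⁻¹.1 x.1 r h4 (congrArg Subtype.val (mul_inv_cancel g))
    have h8 : r = 1 := by
      have : (r - 1) * x.1.trace = 0 := by linear_combination -h6
      rcases mul_eq_zero.mp this with h | h
      · exact sub_eq_zero.mp h
      · exact absurd h htr
    rw [h8] at h4
    simp at h4
    exact Subtype.ext h4.symm
  · intro h x hx
    rw [Set.mem_singleton_iff] at hx
    subst hx
    exact congrArg (QuotientGroup.mk' (Subgroup.center (SpecialLinearGroup (Fin 3) M4)))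
      (h X rfl)

theorem idx (X : SpecialLinearGroup (Fin 3) M4) (htr : X.1.trace ≠ 0) :
    (Subgroup.centralizer ({(QuotientGroup.mk X : ProjectiveSpecialLinearGroup (Fin 3) M4)} :
      Set (ProjectiveSpecialLinearGroup (Fin 3) M4))).index =
    (Subgroup.centralizer ({X} : Set (SpecialLinearGroup (Fin 3) M4))).index := by
  rw [← Subgroup.index_comap_of_surjective _
    (QuotientGroup.mk'_surjective (Subgroup.center (SpecialLinearGroup (Fin 3) M4)))]
  congr 1
  ext g
  exact comm_iff X htr g

/-- The set of noncentral class sizes. -/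
def sizes (G : Type) [Group G] : Set ℕ :=
  {k : ℕ | ∃ x : G, x ∉ Subgroup.center G ∧ k = (Subgroup.centralizer ({x} : Set G)).index}

theorem sizes_sub {G H : Type} [Group G] [Group H] (e : G ≃* H) : sizes G ⊆ sizes H := by
  rintro k ⟨x, hx, rfl⟩
  refine ⟨e x, ?_, ?_⟩
  · intro h
    apply hx
    rw [Subgroup.mem_center_iff] at h ⊢
    intro g
    apply e.injective
    rw [map_mul, map_mul]
    exact h (e g)
  · rw [← Subgroup.index_comap_of_surjective (f := e.toMonoidHom) _ e.surjective]
    congr 1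
    ext g
    rw [Subgroup.mem_comap, Subgroup.mem_centralizer_iff, Subgroup.mem_centralizer_iff]
    constructor
    · intro h y hy
      rw [Set.mem_singleton_iff] at hy
      subst hy
      have := h x rfl
      have := congrArg e this
      rw [map_mul, map_mul] at this
      exact this
    · intro h y hy
      rw [Set.mem_singleton_iff] at hy
      subst hy
      have := h (e y) rfl
      apply e.injective
      rw [map_mul, map_mul]
      exact this

def X3 : SpecialLinearGroup (Fin 3) M4 :=
  ⟨!![1, 0, 0; 0, M4.w, 0; 0, 0, M4.v], by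
    rw [det_fin_three]
    decide⟩

def W3 : SpecialLinearGroup (Fin 3) M4 :=
  ⟨!![M4.w, 0, 0; 0, M4.w, 0; 0, 0, M4.w], by
    rw [det_fin_three]
    decide⟩

instance : Finite (SpecialLinearGroup (Fin 3) M4) := Subtype.finite

theorem W3_mem : W3 ∈ Subgroup.center (SpecialLinearGroup (Fin 3) M4) := by
  rw [Matrix.SpecialLinearGroup.mem_center_iff]
  refine ⟨M4.w, by decide, ?_⟩
  ext i j
  (revert i j; simp only [W3, _root_.Fin.forall_fin_succ, _root_.Matrix.scalar_apply, _root_.Matrix.of_apply, _root_.Matrix.cons_val', _root_.Matrix.cons_val_fin_one, Fin.isValue, _root_.Matrix.cons_val_zero, _root_.Matrix.cons_val_succ, _root_.Fin.succ_zero_eq_one, _root_.Fin.succ_one_eq_two, _root_.IsEmpty.forall_iff, _root_.and_true, _root_.Matrix.diagonal_apply_eq, _root_.ne_eq, _root_.zero_ne_one, _root_.not_false_eq_true, _root_.Matrix.diagonal_apply_ne, Fin.reduceEq, _root_.and_self, _root_.Fin.succ_ne_zero, _root_.true_and])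

theorem W3_pow : W3 ^ 3 = 1 := by
  apply Subtype.ext
  rw [pow_three]
  change (W3.1 * (W3.1 * W3.1)) = 1
  ext i j
  (revert i j; simp only [W3, Nat.reduceAdd, _root_.smul_eq_mul, _root_.zero_smul, _root_.ne_eq, _root_.zero_ne_one, _root_.not_false_eq_true, _root_.mul_eq_zero, reduceCtorEq, _root_.or_self, _root_.or_false, Cfsg.Agent.Lib.MatLit.r3]) <;> (repeat' with_reducible apply And.intro) <;> rfl

theorem W3_ne : W3 ≠ 1 := by
  intro h
  have := congrFun (congrFun (congrArg Subtype.val h) 0) 0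
  simp [W3] at this

theorem three_dvd_center : 3 ∣ Nat.card (Subgroup.center (SpecialLinearGroup (Fin 3) M4)) := by
  have : Fact (Nat.Prime 3) := ⟨by norm_num⟩
  have h := orderOf_eq_prime W3_pow W3_ne
  have h2 := Subgroup.orderOf_dvd_natCard _ W3_mem
  rwa [h] at h2

theorem X3_pow : X3 ^ 3 = 1 := by
  apply Subtype.ext
  rw [pow_three]
  change (X3.1 * (X3.1 * X3.1)) = 1
  ext i j
  (revert i j; simp only [X3, Matrix.mul_apply, Fin.sum_univ_three, _root_.Fin.forall_fin_succ, _root_.Matrix.cons_mul, _root_.Nat.succ_eq_add_one, Nat.reduceAdd, _root_.Matrix.vecMul_cons, _root_.Matrix.head_cons, _root_.one_smul, _root_.Matrix.tail_cons, _root_.zero_smul, _root_.Matrix.empty_vecMul, _root_.add_zero, _root_.Matrix.smul_cons, _root_.smul_eq_mul, _root_.MulZeroClass.mul_zero, _root_.Matrix.smul_empty, _root_.zero_add, _root_.Matrix.empty_mul, _root_.Equiv.symm_apply_apply, _root_.Matrix.of_apply, _root_.Matrix.cons_val', _root_.Matrix.cons_val_fin_one, Fin.isValue, _root_.Matrix.cons_val_zero, _root_.Matrix.cons_val_one,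 _root_.Matrix.cons_val, _root_.mul_one, _root_.Matrix.cons_val_succ, _root_.IsEmpty.forall_iff, _root_.and_true, _root_.Matrix.one_apply_eq, _root_.MulZeroClass.zero_mul, _root_.Fin.succ_zero_eq_one, _root_.ne_eq, _root_.zero_ne_one, _root_.not_false_eq_true, _root_.Matrix.one_apply_ne, _root_.Fin.succ_one_eq_two, Fin.reduceEq, _root_.and_self, _root_.Fin.succ_ne_zero, _root_.true_and]) <;> (repeat' with_reducible apply And.intro) <;> decide

theorem tr1 : X1.1.trace ≠ 0 := by
  simp only [X1, Matrix.trace, Fin.sum_univ_three, _root_.Matrix.trace, _root_.Cfsg.Agent.H805.LThreeFour.X1, _root_.Matrix.diag_apply, _root_.Matrix.of_apply, _root_.Matrix.cons_val', _root_.Matrix.cons_val_fin_one, _root_.Fin.sum_univ_three, _root_.Fin.isValue, _root_.Matrix.cons_val_zero, _root_.Matrix.cons_val_one, _root_.Matrix.cons_val, _root_.ne_eq]; decide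

theorem tr2 : X2.1.trace ≠ 0 := by
  simp only [X2, Matrix.trace, Fin.sum_univ_three, _root_.Matrix.trace, _root_.Cfsg.Agent.H805.LThreeFour.X2, _root_.Matrix.diag_apply, _root_.Matrix.of_apply, _root_.Matrix.cons_val', _root_.Matrix.cons_val_fin_one, _root_.Fin.sum_univ_three, _root_.Fin.isValue, _root_.Matrix.cons_val_zero, _root_.Matrix.cons_val_one, _root_.Matrix.cons_val, _root_.ne_eq]; decide

theorem tr7 : X7.1.trace ≠ 0 := by
  simp [X7, Matrix.trace, Fin.sum_univ_three]

theorem tr5 : X5.1.trace ≠ 0 := by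
  simp only [X5, Matrix.trace, Fin.sum_univ_three, _root_.Matrix.trace, _root_.Cfsg.Agent.H805.LThreeFour.X5, _root_.Matrix.diag_apply, _root_.Matrix.of_apply, _root_.Matrix.cons_val', _root_.Matrix.cons_val_fin_one, _root_.Fin.sum_univ_three, _root_.Fin.isValue, _root_.Matrix.cons_val_zero, _root_.Matrix.cons_val_one, _root_.add_zero, _root_.Matrix.cons_val, _root_.ne_eq]; decide

/-- The image of `X3` is not central. -/
theorem X3_not_central : (QuotientGroup.mk X3 : ProjectiveSpecialLinearGroup (Fin 3) M4) ∉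
    Subgroup.center (ProjectiveSpecialLinearGroup (Fin 3) M4) := by
  intro h
  have h1 : (QuotientGroup.mk X3 : ProjectiveSpecialLinearGroup (Fin 3) M4) ∈
      Subgroup.centralizer ({(QuotientGroup.mk X1 : ProjectiveSpecialLinearGroup (Fin 3) M4)} :
      Set (ProjectiveSpecialLinearGroup (Fin 3) M4)) := by
    rw [Subgroup.mem_centralizer_iff]
    intro g _
    exact Subgroup.mem_center_iff.mp h g
  rw [comm_iff X1 tr1, Subgroup.mem_centralizer_iff] at h1
  have h2 := congrFun (congrFun (congrArg Subtype.val (h1 X1 rfl)) 0) 2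
  change (X1.1 * X3.1) 0 2 = (X3.1 * X1.1) 0 2 at h2
  simp [X1, X3, Matrix.mul_apply, Fin.sum_univ_three] at h2

theorem mem_sizes (X : SpecialLinearGroup (Fin 3) M4) (htr : X.1.trace ≠ 0) (c : ℕ)
    (hc : Nat.card (Subgroup.centralizer ({X} : Set (SpecialLinearGroup (Fin 3) M4))) = c)
    (hc2 : Nat.card (SpecialLinearGroup (Fin 3) M4) ≠ c) :
    ∃ k, k ∈ sizes (ProjectiveSpecialLinearGroup (Fin 3) M4) ∧
      c * k = Nat.card (SpecialLinearGroup (Fin 3) M4) := by
  have hck := Subgroup.card_mul_index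
    (Subgroup.centralizer ({X} : Set (SpecialLinearGroup (Fin 3) M4)))
  rw [hc] at hck
  refine ⟨_, ⟨QuotientGroup.mk X, ?_, (idx X htr).symm⟩, hck⟩
  intro h
  have h1 : (Subgroup.centralizer ({(QuotientGroup.mk X : ProjectiveSpecialLinearGroup (Fin 3) M4)} :
      Set (ProjectiveSpecialLinearGroup (Fin 3) M4))).index = 1 := by
    rw [Subgroup.index_eq_one, eq_top_iff]
    intro g _
    rw [Subgroup.mem_centralizer_iff]
    intro y hy
    rw [Set.mem_singleton_iff] at hy
    subst hy
    exact (Subgroup.mem_center_iff.mp h g).symm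
  rw [idx X htr] at h1
  rw [h1, mul_one] at hck
  exact hc2 hck.symm

theorem five_M4 : 5 ≤ Set.ncard (sizes (ProjectiveSpecialLinearGroup (Fin 3) M4)) := by
  classical
  have d1 : 192 ∣ Nat.card (SpecialLinearGroup (Fin 3) M4) := by
    rw [← cent1]; exact Subgroup.card_subgroup_dvd_card _
  have d7 : 21 ∣ Nat.card (SpecialLinearGroup (Fin 3) M4) := by
    rw [← cent7]; exact Subgroup.card_subgroup_dvd_card _
  have d5 : 15 ∣ Nat.card (SpecialLinearGroup (Fin 3) M4) := by
    rw [← cent5]; exact Subgroup.card_subgroup_dvd_card _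
  have hpos : 0 < Nat.card (SpecialLinearGroup (Fin 3) M4) := Nat.card_pos
  obtain ⟨k1, m1, e1⟩ := mem_sizes X1 tr1 192 cent1 (by (clear * - d5; omega))
  obtain ⟨k2, m2, e2⟩ := mem_sizes X2 tr2 48 cent2 (by (clear * - d5; omega))
  obtain ⟨k7, m7, e7⟩ := mem_sizes X7 tr7 21 cent7 (by (clear * - d5; omega))
  obtain ⟨k5, m5, e5⟩ := mem_sizes X5 tr5 15 cent5 (by (clear * - d7; omega))
  -- the element of order three
  have h3 : ∃ k3, k3 ∈ sizes (ProjectiveSpecialLinearGroup (Fin 3) M4) ∧
      ∃ q, 9 * q * k3 = Nat.card (SpecialLinearGroup (Fin 3) M4) := by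
    have : Fact (Nat.Prime 3) := ⟨by norm_num⟩
    set x : ProjectiveSpecialLinearGroup (Fin 3) M4 := QuotientGroup.mk X3 with hx
    have hx3 : x ^ 3 = 1 := by
      rw [hx, ← QuotientGroup.mk_pow, X3_pow]; rfl
    have hx1 : x ≠ 1 := by
      intro h
      apply X3_not_central
      rw [← hx, h]
      exact Subgroup.one_mem _
    have ho := orderOf_eq_prime hx3 hx1
    have hdvd : 3 ∣ Nat.card (Subgroup.centralizer ({x} :
        Set (ProjectiveSpecialLinearGroup (Fin 3) M4))) := by
      have hm : x ∈ Subgroup.centralizer ({x} :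
          Set (ProjectiveSpecialLinearGroup (Fin 3) M4)) := by
        rw [Subgroup.mem_centralizer_iff]
        intro y hy
        rw [Set.mem_singleton_iff] at hy
        rw [hy]
      have h2 := Subgroup.orderOf_dvd_natCard _ hm
      rwa [ho] at h2
    obtain ⟨c, hc⟩ := hdvd
    obtain ⟨z, hz⟩ := three_dvd_center
    have hk := Subgroup.card_mul_index (Subgroup.centralizer ({x} :
        Set (ProjectiveSpecialLinearGroup (Fin 3) M4)))
    have hq := Subgroup.card_eq_card_quotient_mul_card_subgroup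
      (Subgroup.center (SpecialLinearGroup (Fin 3) M4))
    refine ⟨_, ⟨x, X3_not_central, rfl⟩, c * z, ?_⟩
    rw [hq, hz]
    change _ = Nat.card (ProjectiveSpecialLinearGroup (Fin 3) M4) * _
    rw [← hk, hc]
    ring
  obtain ⟨k3, m3, q, e3⟩ := h3
  have hfin : (sizes (ProjectiveSpecialLinearGroup (Fin 3) M4)).Finite := by
    have : sizes (ProjectiveSpecialLinearGroup (Fin 3) M4) ⊆
        Set.range (fun x : ProjectiveSpecialLinearGroup (Fin 3) M4 =>
        (Subgroup.centralizer ({x} : Set (ProjectiveSpecialLinearGroup (Fin 3) M4))).index) := by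
      rintro k ⟨x, -, rfl⟩
      exact ⟨x, rfl⟩
    exact (Set.finite_range _).subset this
  have hsub : (({k1, k2, k7, k5, k3} : Finset ℕ) : Set ℕ) ⊆
      sizes (ProjectiveSpecialLinearGroup (Fin 3) M4) := by
    intro k hk
    simp only [Finset.coe_insert, Finset.coe_singleton, Set.mem_insert_iff,
      Set.mem_singleton_iff] at hk
    rcases hk with rfl | rfl | rfl | rfl | rfl
    exacts [m1, m2, m7, m5, m3]
  have := Set.ncard_le_ncard hsub hfin
  rw [Set.ncard_coe_finset] at this
  refine le_trans (le_of_eq ?_) this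
  have hk3 : 0 < k3 := by
    rcases Nat.eq_zero_or_pos k3 with h | h
    · rw [h, mul_zero] at e3
      exact absurd e3.symm hpos.ne'
    · exact h
  have key : ∀ c k : ℕ, c * k = Nat.card (SpecialLinearGroup (Fin 3) M4) → ¬ 9 ∣ c → k ≠ k3 := by
    intro c k h1 h2 h3
    subst h3
    apply h2
    have : 9 * q * k = c * k := by rw [e3, h1]
    have := Nat.eq_of_mul_eq_mul_right hk3 this
    exact ⟨q, this.symm⟩
  have n1 := key _ _ e1 (by norm_num)
  have n2 := key _ _ e2 (by norm_num)
  have n7 := key _ _ e7 (by norm_num)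
  have n5 := key _ _ e5 (by norm_num)
  have key2 : ∀ c k c' k' : ℕ, c * k = Nat.card (SpecialLinearGroup (Fin 3) M4) →
      c' * k' = Nat.card (SpecialLinearGroup (Fin 3) M4) → c ≠ c' → k ≠ k' := by
    intro c k c' k' h1 h2 h3 h4
    subst h4
    have hk0 : 0 < k := by
      rcases Nat.eq_zero_or_pos k with h | h
      · rw [h, mul_zero] at h1
        exact absurd h1.symm hpos.ne'
      · exact h
    exact h3 (Nat.eq_of_mul_eq_mul_right hk0 (by rw [h1, h2]))
  have a12 := key2 _ _ _ _ e1 e2 (by norm_num)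
  have a17 := key2 _ _ _ _ e1 e7 (by norm_num)
  have a15 := key2 _ _ _ _ e1 e5 (by norm_num)
  have a27 := key2 _ _ _ _ e2 e7 (by norm_num)
  have a25 := key2 _ _ _ _ e2 e5 (by norm_num)
  have a75 := key2 _ _ _ _ e7 e5 (by norm_num)
  rw [Finset.card_insert_of_notMem, Finset.card_insert_of_notMem, Finset.card_insert_of_notMem,
    Finset.card_insert_of_notMem, Finset.card_singleton]
  · simpa using n5
  · simp [n7, a75]
  · simp [n2, a27, a25]
  · simp [n1, a12, a17, a15]

/-- The class sizes of `L₃(4)`. -/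
theorem l34_five {F : Type} [Field F] [Fintype F] (hF : Fintype.card F = 4) :
    5 ≤ Set.ncard {k : ℕ | ∃ x : Matrix.ProjectiveSpecialLinearGroup (Fin 3) F,
      x ∉ Subgroup.center (Matrix.ProjectiveSpecialLinearGroup (Fin 3) F) ∧
      k = (Subgroup.centralizer ({x} :
        Set (Matrix.ProjectiveSpecialLinearGroup (Fin 3) F))).index} := by
  have e : M4 ≃+* F := FiniteField.ringEquivOfCardEq (by rw [M4.card_eq, hF])
  let E : SpecialLinearGroup (Fin 3) M4 ≃* SpecialLinearGroup (Fin 3) F :=
    { toFun := Matrix.SpecialLinearGroup.map e.toRingHom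
      invFun := Matrix.SpecialLinearGroup.map e.symm.toRingHom
      left_inv := fun A => by
        ext i j
        simp
      right_inv := fun A => by
        ext i j
        simp
      map_mul' := map_mul _ }
  have hE : (Subgroup.center (SpecialLinearGroup (Fin 3) M4)).map (E : _ →* _) =
      Subgroup.center (SpecialLinearGroup (Fin 3) F) := by
    ext g
    rw [Subgroup.mem_map]
    constructor
    · rintro ⟨x, hx, rfl⟩
      rw [Subgroup.mem_center_iff] at hx ⊢
      intro g
      have := congrArg E (hx (E.symm g))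
      rw [map_mul, map_mul, MulEquiv.apply_symm_apply] at this
      exact this
    · intro hg
      refine ⟨E.symm g, ?_, E.apply_symm_apply g⟩
      rw [Subgroup.mem_center_iff] at hg ⊢
      intro x
      apply E.injective
      rw [map_mul, map_mul, MulEquiv.apply_symm_apply]
      exact hg (E x)
  have E2 : ProjectiveSpecialLinearGroup (Fin 3) M4 ≃* ProjectiveSpecialLinearGroup (Fin 3) F :=
    QuotientGroup.congr _ _ E hE
  have h1 : sizes (ProjectiveSpecialLinearGroup (Fin 3) M4) =
      sizes (ProjectiveSpecialLinearGroup (Fin 3) F) :=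
    Set.Subset.antisymm (sizes_sub E2) (sizes_sub E2.symm)
  have h2 := five_M4
  rw [h1] at h2
  exact h2

end Cfsg.Agent.H805.LThreeFour
end

-- part: H307/Assemble
section
set_option autoImplicit false

/-! # Simple groups of conjugate rank 3, 4, 5 -/

namespace Cfsg.Agent.H307.Assemble

open Subgroup Cfsg Cfsg.Agent.H307.Heads Cfsg.Agent.H178.CType

universe u

/-- the class sizes of `PSL₂(2^m)` -/
def PslEven : Prop := ∀ (F : Type) [Field F] [Fintype F] (m : ℕ), 2 ≤ m → Fintype.card F = 2 ^ m →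
  Set.ncard (idx (Matrix.ProjectiveSpecialLinearGroup (Fin 2) F)) = 3

/-- the class sizes of `PSL₂(q)`, `q` odd -/
def PslOdd : Prop := ∀ (F : Type) [Field F] [Fintype F], Odd (Fintype.card F) → 7 ≤ Fintype.card F →
  Set.ncard (idx (Matrix.ProjectiveSpecialLinearGroup (Fin 2) F)) = 4

/-- `q` is a power of two, odd and at least 7, or 5 -/
theorem cases_card {F : Type} [Field F] [Fintype F] (h : 3 < Fintype.card F) :
    (∃ m, 2 ≤ m ∧ Fintype.card F = 2 ^ m) ∨ (Odd (Fintype.card F) ∧ 7 ≤ Fintype.card F) ∨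
      Fintype.card F = 5 := by
  obtain ⟨p, -, n, hp, hn⟩ := FiniteField.card' F
  rcases hp.eq_two_or_odd' with rfl | ho
  · left
    refine ⟨n, ?_, hn⟩
    by_contra hlt
    have : (n : ℕ) = 1 := by have := n.pos; omega
    rw [hn, this] at h
    norm_num at h
  · have ho2 : Odd (Fintype.card F) := by rw [hn]; exact ho.pow
    rcases Nat.lt_or_ge (Fintype.card F) 7 with h7 | h7
    · right; right
      obtain ⟨k, hk⟩ := ho2
      omega
    · exact Or.inr (Or.inl ⟨ho2, h7⟩)

theorem exists_four {G : Type u} [Group G] {F : Type} [Field F] [Fintype F] (h : Fintype.card F = 5)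
    (e : G ≃* Matrix.ProjectiveSpecialLinearGroup (Fin 2) F) :
    ∃ (K : Type) (_ : Field K) (_ : Fintype K), Fintype.card K = 2 ^ 2 ∧
      Nonempty (G ≃* Matrix.ProjectiveSpecialLinearGroup (Fin 2) K) := by
  haveI : Fact (Nat.Prime 2) := ⟨Nat.prime_two⟩
  letI : Fintype (GaloisField 2 2) := Fintype.ofFinite _
  have hc : Fintype.card (GaloisField 2 2) = 4 := by
    rw [← Nat.card_eq_fintype_card, GaloisField.card 2 2 (by norm_num)]; norm_num
  obtain ⟨f⟩ := S0252.result (F := GaloisField 2 2) hc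
  obtain ⟨f'⟩ := S0253.result (F := F) h
  exact ⟨GaloisField 2 2, inferInstance, inferInstance, by rw [hc]; norm_num, ⟨(e.trans f').trans f.symm⟩⟩

/-- the list with the numbers of class sizes -/
theorem concl_cases (h1 : PslEven) (h2 : PslOdd) {G : Type u} [Group G] (h : Concl G) :
    (Set.ncard (idx G) = 3 ∧ ∃ (m : ℕ) (F : Type) (_ : Field F) (_ : Fintype F), 2 ≤ m ∧ Fintype.card F = 2 ^ m ∧
        Nonempty (G ≃* Matrix.ProjectiveSpecialLinearGroup (Fin 2) F)) ∨
    (Set.ncard (idx G) = 4 ∧ ∃ (F : Type) (_ : Field F) (_ : Fintype F), Odd (Fintype.card F) ∧ 7 ≤ Fintype.card F ∧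
        Nonempty (G ≃* Matrix.ProjectiveSpecialLinearGroup (Fin 2) F)) ∨
    (5 ≤ Set.ncard (idx G) ∧ ((∃ (n : ℕ) (F : Type) (_ : Field F) (_ : Fintype F), 1 ≤ n ∧
        Fintype.card F = 2 ^ (2 * n + 1) ∧ Nonempty (G ≃* ↥(Cfsg.Lie.Sz F (2 ^ (n + 1))))) ∨
      ∃ (F : Type) (_ : Field F) (_ : Fintype F), Fintype.card F = 4 ∧
        Nonempty (G ≃* Matrix.ProjectiveSpecialLinearGroup (Fin 3) F))) ∨
    6 ≤ Set.ncard (idx G) := by
  have even : ∀ (m : ℕ) (F : Type) [Field F] [Fintype F], 2 ≤ m → Fintype.card F = 2 ^ m →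
        (G ≃* Matrix.ProjectiveSpecialLinearGroup (Fin 2) F) →
      (Set.ncard (idx G) = 3 ∧ ∃ (m : ℕ) (F : Type) (_ : Field F) (_ : Fintype F), 2 ≤ m ∧ Fintype.card F = 2 ^ m ∧
        Nonempty (G ≃* Matrix.ProjectiveSpecialLinearGroup (Fin 2) F)) := by
    intro m F _ _ hm hF e
    exact ⟨by rw [idx_congr e]; exact h1 F m hm hF, m, F, inferInstance, inferInstance, hm, hF, ⟨e⟩⟩
  rcases h with ⟨F, i1, i2, hF, ⟨e⟩⟩ | ⟨F, i1, i2, n, hn, hF, ⟨e⟩⟩ | he | ⟨F, i1, i2, hF, ⟨e⟩⟩
  · rcases cases_card hF with ⟨m, hm, hF'⟩ | ⟨ho, h7⟩ | h5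
    · exact Or.inl (even m F hm hF' e)
    · exact Or.inr (Or.inl ⟨by rw [idx_congr e]; exact h2 F ho h7, F, i1, i2, ho, h7, ⟨e⟩⟩)
    · obtain ⟨K, j1, j2, hK, ⟨e'⟩⟩ := exists_four h5 e
      exact Or.inl (even 2 K le_rfl hK e')
  · exact Or.inr (Or.inr (Or.inl ⟨by rw [idx_congr e]; exact H504.SzFive.sz_five hn hF,
      Or.inl ⟨n, F, i1, i2, hn, hF, ⟨e⟩⟩⟩))
  · obtain ⟨e⟩ := he
    exact Or.inr (Or.inr (Or.inr (by rw [idx_congr e]; exact H805.ASeven.a7_six)))
  · exact Or.inr (Or.inr (Or.inl ⟨by rw [idx_congr e]; exact H805.LThreeFour.l34_five hF,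
      Or.inr ⟨F, i1, i2, hF, ⟨e⟩⟩⟩))

theorem noncomm_of_ncard {G : Type*} [Group G] (h : Set.ncard (idx G) ≠ 0) : ¬ IsMulCommutative G := by
  intro hc
  apply h
  have : idx G = ∅ := by
    rw [Set.eq_empty_iff_forall_notMem]
    rintro m ⟨x, hx, -⟩
    apply hx
    rw [mem_center_iff]
    intro g
    exact hc.is_comm.comm g x
  rw [this, Set.ncard_empty]

theorem reverse {G : Type*} [Group G] {F : Type} [Field F] [Fintype F] (h3 : 3 < Fintype.card F)
    (e : G ≃* Matrix.ProjectiveSpecialLinearGroup (Fin 2) F) {k : ℕ} (hk : k ≠ 0)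
    (h : Set.ncard (idx (Matrix.ProjectiveSpecialLinearGroup (Fin 2) F)) = k) :
    IsSimpleGroup G ∧ ¬ IsMulCommutative G ∧ Set.ncard (idx G) = k := by
  have hs := TwoFusion.SLTwoFacts.isSimpleGroup_psl h3
  have hG : Set.ncard (idx G) = k := by rw [idx_congr e]; exact h
  refine ⟨?_, noncomm_of_ncard (by rw [hG]; exact hk), hG⟩
  haveI : Nontrivial G := e.toEquiv.nontrivial
  exact IsSimpleGroup.isSimpleGroup_of_surjective e.symm.toMonoidHom e.symm.surjective

theorem three_iff (h1 : PslEven) (h2 : PslOdd) (G : Type u) [Group G] [Finite G] :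
    (IsSimpleGroup G ∧ ¬ IsMulCommutative G ∧ Set.ncard (idx G) = 3) ↔
      ∃ (m : ℕ) (F : Type) (_ : Field F) (_ : Fintype F), 2 ≤ m ∧ Fintype.card F = 2 ^ m ∧
        Nonempty (G ≃* Matrix.ProjectiveSpecialLinearGroup (Fin 2) F) := by
  constructor
  · rintro ⟨hs, hna, h3⟩
    obtain ⟨m, hm⟩ := good_of_three hna h3
    have hc : Concl G := Good.concl hna (m := m) hm
    rcases concl_cases h1 h2 hc with h | h | h | h
    · exact h.2
    · omega
    · omega
    · omega
  · rintro ⟨m, F, i1, i2, hm, hF, ⟨e⟩⟩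
    refine reverse ?_ e (by norm_num) (h1 F m hm hF)
    rw [hF]
    calc 3 < 2 ^ 2 := by norm_num
      _ ≤ 2 ^ m := Nat.pow_le_pow_right (by norm_num) hm

theorem four_iff (h1 : PslEven) (h2 : PslOdd)
    (hcop : ∀ (G : Type u) [Group G] [Finite G] [IsSimpleGroup G] (_ : ¬ IsMulCommutative G) (x y : G), x ≠ 1 →
      y ≠ 1 → ¬ ((Subgroup.centralizer ({x} : Set G)).index).Coprime (Subgroup.centralizer ({y} : Set G)).index)
    (G : Type u) [Group G] [Finite G] :
    (IsSimpleGroup G ∧ ¬ IsMulCommutative G ∧ Set.ncard (idx G) = 4) ↔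
      ∃ (F : Type) (_ : Field F) (_ : Fintype F), Odd (Fintype.card F) ∧ 7 ≤ Fintype.card F ∧
        Nonempty (G ≃* Matrix.ProjectiveSpecialLinearGroup (Fin 2) F) := by
  constructor
  · rintro ⟨hs, hna, h3⟩
    obtain ⟨m, hm⟩ := good_of_four hna (hcop G hna) h3
    have hc : Concl G := Good.concl hna (m := m) hm
    rcases concl_cases h1 h2 hc with h | h | h | h
    · omega
    · exact h.2
    · omega
    · omega
  · rintro ⟨F, i1, i2, ho, h7, ⟨e⟩⟩
    exact reverse (by omega) e (by norm_num) (h2 F ho h7)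

theorem five (h1 : PslEven) (h2 : PslOdd)
    (hcop : ∀ (G : Type u) [Group G] [Finite G] [IsSimpleGroup G] (_ : ¬ IsMulCommutative G) (x y : G), x ≠ 1 →
      y ≠ 1 → ¬ ((Subgroup.centralizer ({x} : Set G)).index).Coprime (Subgroup.centralizer ({y} : Set G)).index)
    {G : Type u} [Group G] [Finite G] [IsSimpleGroup G] (hG : ¬ IsMulCommutative G)
    (h5 : Set.ncard (idx G) = 5) (h3 : Set.ncard (heads G) ≠ 3) :
    (∃ (n : ℕ) (F : Type) (_ : Field F) (_ : Fintype F), 1 ≤ n ∧ Fintype.card F = 2 ^ (2 * n + 1) ∧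
        Nonempty (G ≃* ↥(Cfsg.Lie.Sz F (2 ^ (n + 1))))) ∨
      ∃ (F : Type) (_ : Field F) (_ : Fintype F), Fintype.card F = 4 ∧
        Nonempty (G ≃* Matrix.ProjectiveSpecialLinearGroup (Fin 3) F) := by
  obtain ⟨m, hm⟩ := good_of_five hG (hcop G hG) h5 h3
  have hc : Concl G := Good.concl hG (m := m) hm
  rcases concl_cases h1 h2 hc with h | h | h | h
  · omega
  · omega
  · exact h.2
  · omega

end Cfsg.Agent.H307.Assemble
end

-- part: H307/ConicCount
section
set_option autoImplicit false

/-! # The number of points of `a² + t a b + b² = 1` over a finite field, and centralizers in `SL₂` -/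

namespace Cfsg.Agent.H307.Conic

variable {F : Type*} [Field F] [Fintype F]

open scoped Classical in
/-- number of solutions of `a² + t a b + b² = 1`, `t² ≠ 4` -/
theorem card_conic (t : F) (ht : t ^ 2 ≠ 4) :
    Nat.card {p : F × F // p.1 ^ 2 + t * p.1 * p.2 + p.2 ^ 2 = 1} +
      Nat.card {s : F // s ^ 2 + t * s + 1 = 0} = Fintype.card F + 1 := by
  -- points with `b ≠ 0` correspond to `s` with `s² + t s + 1 ≠ 0`, `2 s + t ≠ 0`
  let e : {p : F × F // p.1 ^ 2 + t * p.1 * p.2 + p.2 ^ 2 = 1 ∧ p.2 ≠ 0} ≃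
      {s : F // s ^ 2 + t * s + 1 ≠ 0 ∧ 2 * s + t ≠ 0} :=
    { toFun := fun p => ⟨(p.1.1 + 1) / p.1.2, by
        obtain ⟨⟨a, b⟩, h, hb⟩ := p
        simp only at h hb ⊢
        have h1 : ((a + 1) / b) ^ 2 + t * ((a + 1) / b) + 1 = (2 * (a + 1) + t * b) / b ^ 2 := by
          field_simp
          linear_combination h
        have h2 : 2 * ((a + 1) / b) + t = (2 * (a + 1) + t * b) / b := by
          field_simp
        have h3 : 2 * (a + 1) + t * b ≠ 0 := by
          intro h4
          -- then (a+1)² + t (a+1) b + b² = 0 and 2 (a+1) = - t b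
          have h5 : (a + 1) ^ 2 + t * (a + 1) * b + b ^ 2 = 2 * (a + 1) + t * b := by
            linear_combination h
          rw [h4] at h5
          -- 4 * h5 : (t b)² - 2 (t b)² + 4 b² = 0
          have h6 : (4 - t ^ 2) * b ^ 2 = 0 := by
            have : 2 * (a + 1) = - (t * b) := by linear_combination h4
            linear_combination 4 * h5 - (2 * (a + 1) - t * b + 2 * t * b) * this
          rcases mul_eq_zero.1 h6 with h7 | h7
          · exact ht (by linear_combination -h7)
          · exact hb (pow_eq_zero_iff (by norm_num) |>.1 h7)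
        rw [h1, h2]
        exact ⟨div_ne_zero h3 (pow_ne_zero 2 hb), div_ne_zero h3 hb⟩⟩
      invFun := fun s => ⟨(-1 + s.1 * ((2 * s.1 + t) / (s.1 ^ 2 + t * s.1 + 1)),
          (2 * s.1 + t) / (s.1 ^ 2 + t * s.1 + 1)), by
        obtain ⟨s, h1, h2⟩ := s
        simp only
        refine ⟨?_, div_ne_zero h2 h1⟩
        have hl : (2 * s + t) / (s ^ 2 + t * s + 1) * (s ^ 2 + t * s + 1) = 2 * s + t :=
          div_mul_cancel₀ _ h1
        generalize (2 * s + t) / (s ^ 2 + t * s + 1) = l at hl
        linear_combination l * hl⟩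
      left_inv := by
        rintro ⟨⟨a, b⟩, h, hb⟩
        simp only at h hb
        have h1 : ((a + 1) / b) ^ 2 + t * ((a + 1) / b) + 1 = (2 * (a + 1) + t * b) / b ^ 2 := by
          field_simp
          linear_combination h
        have h3 : 2 * (a + 1) + t * b ≠ 0 := by
          intro h4
          have h5 : (a + 1) ^ 2 + t * (a + 1) * b + b ^ 2 = 2 * (a + 1) + t * b := by
            linear_combination h
          rw [h4] at h5
          have h6 : (4 - t ^ 2) * b ^ 2 = 0 := by
            have : 2 * (a + 1) = - (t * b) := by linear_combination h4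
            linear_combination 4 * h5 - (2 * (a + 1) - t * b + 2 * t * b) * this
          rcases mul_eq_zero.1 h6 with h7 | h7
          · exact ht (by linear_combination -h7)
          · exact hb (pow_eq_zero_iff (by norm_num) |>.1 h7)
        have h4 : (2 * ((a + 1) / b) + t) / (((a + 1) / b) ^ 2 + t * ((a + 1) / b) + 1) = b := by
          rw [h1]
          have h2 : 2 * ((a + 1) / b) + t = (2 * (a + 1) + t * b) / b := by
            field_simp
          rw [h2]
          field_simp
        apply Subtype.ext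
        simp only [h4]
        refine Prod.ext ?_ rfl
        simp only
        field_simp
        ring
      right_inv := by
        rintro ⟨s, h1, h2⟩
        apply Subtype.ext
        simp only
        have : (-1 + s * ((2 * s + t) / (s ^ 2 + t * s + 1)) + 1) = s * ((2 * s + t) / (s ^ 2 + t * s + 1)) := by ring
        rw [this]
        have h3 : (2 * s + t) / (s ^ 2 + t * s + 1) ≠ 0 := div_ne_zero h2 h1
        exact mul_div_cancel_right₀ s h3 }
  -- points with `b = 0`
  have hf : Nat.card {p : F × F // p.1 ^ 2 + t * p.1 * p.2 + p.2 ^ 2 = 1} =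
      Nat.card {a : F // a ^ 2 = 1} + Nat.card {s : F // s ^ 2 + t * s + 1 ≠ 0 ∧ 2 * s + t ≠ 0} := by
    rw [← Nat.card_congr e]
    let e0 : {p : F × F // p.1 ^ 2 + t * p.1 * p.2 + p.2 ^ 2 = 1 ∧ p.2 = 0} ≃ {a : F // a ^ 2 = 1} :=
      { toFun := fun p => ⟨p.1.1, by
          obtain ⟨⟨a, b⟩, h, hb⟩ := p
          simp only at h hb ⊢
          rw [hb] at h
          linear_combination h⟩
        invFun := fun a => ⟨(a.1, 0), by simpa only [_root_.MulZeroClass.mul_zero, _root_.add_zero, _root_.ne_eq, _root_.OfNat.ofNat_ne_zero, _root_.not_false_eq_true, _root_.zero_pow, _root_.sq_eq_one_iff] using a.2, rfl⟩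
        left_inv := by
          rintro ⟨⟨a, b⟩, h, hb⟩
          simp only at hb
          subst hb
          rfl
        right_inv := fun a => rfl }
    rw [← Nat.card_congr e0]
    simp only [Nat.card_eq_fintype_card, Fintype.card_subtype]
    rw [← Finset.card_filter_add_card_filter_not (s := Finset.univ.filter
      (fun p : F × F => p.1 ^ 2 + t * p.1 * p.2 + p.2 ^ 2 = 1)) (fun p => p.2 = 0)]
    simp only [Finset.filter_filter, ne_eq]
  have hg : Nat.card {s : F // s ^ 2 + t * s + 1 ≠ 0 ∧ 2 * s + t ≠ 0} + Nat.card {s : F // s ^ 2 + t * s + 1 = 0} +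
      Nat.card {s : F // 2 * s + t = 0} = Fintype.card F := by
    have hd : ∀ s : F, s ^ 2 + t * s + 1 = 0 → 2 * s + t ≠ 0 := by
      intro s h1 h2
      apply ht
      have h3 : t = - 2 * s := by linear_combination h2
      subst h3
      linear_combination - 4 * h1
    simp only [Nat.card_eq_fintype_card, Fintype.card_subtype]
    rw [← Finset.card_univ, ← Finset.card_filter_add_card_filter_not (s := (Finset.univ : Finset F)) (fun s => 2 * s + t = 0)]
    rw [← Finset.card_filter_add_card_filter_not (s := Finset.univ.filter (fun s : F => ¬ (2 * s + t = 0)))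
      (fun s => s ^ 2 + t * s + 1 = 0)]
    simp only [Finset.filter_filter]
    have h1 : (Finset.univ.filter (fun s : F => ¬ (2 * s + t = 0) ∧ s ^ 2 + t * s + 1 = 0)) =
        Finset.univ.filter (fun s : F => s ^ 2 + t * s + 1 = 0) := by
      ext s
      simp only [Finset.mem_filter, Finset.mem_univ, true_and]
      exact ⟨fun h => h.2, fun h => ⟨hd s h, h⟩⟩
    have h2 : (Finset.univ.filter (fun s : F => ¬ (2 * s + t = 0) ∧ ¬ (s ^ 2 + t * s + 1 = 0))) =
        Finset.univ.filter (fun s : F => s ^ 2 + t * s + 1 ≠ 0 ∧ 2 * s + t ≠ 0) := by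
      ext s
      simp only [Finset.mem_filter, Finset.mem_univ, true_and]
      exact ⟨fun h => ⟨h.2, h.1⟩, fun h => ⟨h.2, h.1⟩⟩
    rw [h1, h2]
    omega
  have h1 : Nat.card {a : F // a ^ 2 = 1} = Nat.card {s : F // 2 * s + t = 0} + 1 := by
    by_cases h2 : (2 : F) = 0
    · have ht0 : t ≠ 0 := by
        intro h
        apply ht
        rw [h]
        have : (4 : F) = 2 * 2 := by norm_num
        rw [this, h2]; ring
      have e1 : IsEmpty {s : F // 2 * s + t = 0} := ⟨fun s => ht0 (by
        have h5 := s.2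
        linear_combination h5 - s.1 * h2)⟩
      rw [Nat.card_of_isEmpty (α := {s : F // 2 * s + t = 0}), zero_add]
      rw [Nat.card_eq_one_iff_unique]
      refine ⟨⟨fun a b => Subtype.ext ?_⟩, ⟨⟨1, by simp⟩⟩⟩
      have ha : (a.1 - b.1) ^ 2 = 0 := by
        have h3 := a.2
        have h4 := b.2
        linear_combination h3 + h4 + (1 - a.1 * b.1) * h2
      exact sub_eq_zero.1 ((pow_eq_zero_iff (by norm_num)).1 ha)
    · have e1 : Nat.card {s : F // 2 * s + t = 0} = 1 := by
        rw [Nat.card_eq_one_iff_unique]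
        refine ⟨⟨fun a b => Subtype.ext ?_⟩, ⟨⟨- t / 2, by field_simp; ring⟩⟩⟩
        have h3 := a.2
        have h4 := b.2
        have : 2 * (a.1 - b.1) = 0 := by linear_combination h3 - h4
        exact sub_eq_zero.1 ((mul_eq_zero.1 this).resolve_left h2)
      rw [e1]
      rw [Nat.card_eq_two_iff]
      refine ⟨⟨1, by simp⟩, ⟨-1, by simp only [_root_.even_two, _root_.Even.neg_pow, _root_.one_pow]⟩, ?_, ?_⟩
      · intro h
        have := congrArg Subtype.val h
        simp only at this
        apply h2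
        linear_combination this
      · ext ⟨a, ha⟩
        simp only [Set.mem_insert_iff, Set.mem_singleton_iff, Set.mem_univ, iff_true, Subtype.mk.injEq]
        have : (a - 1) * (a + 1) = 0 := by linear_combination ha
        rcases mul_eq_zero.1 this with h | h
        · left; linear_combination h
        · right; linear_combination h
  omega

end Cfsg.Agent.H307.Conic
end

-- part: H178/CType/PSL2Idx
section
/-!
# The indices of the centralizers in `PSL₂(q)`
-/

set_option autoImplicit false

namespace Cfsg.Agent.H178.PSL2Idx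

open Matrix Subgroup Cfsg.Agent.ClassicalGeometry.PSL2Basic

/-- the set of indices of the centralizers of non-central elements -/
def idx (G : Type*) [Group G] : Set ℕ :=
  {m : ℕ | ∃ x : G, x ∉ Subgroup.center G ∧ m = (Subgroup.centralizer ({x} : Set G)).index}

theorem card_centralizer_map {G H : Type*} [Group G] [Group H] (e : G ≃* H) (x : G) :
    (centralizer ({e x} : Set H)) = (centralizer ({x} : Set G)).map (e : G →* H) := by
  ext y
  rw [mem_centralizer_singleton_iff, mem_map]
  constructor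
  · intro h
    refine ⟨e.symm y, ?_, by simp⟩
    rw [mem_centralizer_singleton_iff]
    apply e.injective
    simpa only [_root_.map_mul, _root_.MulEquiv.apply_symm_apply] using h
  · rintro ⟨z, hz, rfl⟩
    rw [mem_centralizer_singleton_iff] at hz
    rw [MonoidHom.coe_coe, ← map_mul, hz, map_mul]

theorem idx_le {G H : Type*} [Group G] [Group H] (e : G ≃* H) : idx G ⊆ idx H := by
  rintro m ⟨x, hx, rfl⟩
  refine ⟨e x, ?_, ?_⟩
  · intro h
    apply hx
    rw [mem_center_iff] at h ⊢
    intro g
    apply e.injective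
    rw [map_mul, map_mul, h]
  · rw [card_centralizer_map, index_map_equiv]

theorem idx_congr {G H : Type*} [Group G] [Group H] (e : G ≃* H) : idx G = idx H :=
  le_antisymm (idx_le e) (idx_le e.symm)

variable {F : Type*} [Field F]

/-- a matrix of `SL₂` that is not central is not scalar -/
theorem ns {A : SpecialLinearGroup (Fin 2) F} (hA : A ∉ center (SpecialLinearGroup (Fin 2) F)) :
    A.1 0 1 ≠ 0 ∨ A.1 1 0 ≠ 0 ∨ A.1 0 0 - A.1 1 1 ≠ 0 := by
  by_contra hcon
  push Not at hcon
  obtain ⟨h1, h2, h3⟩ := hcon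
  have hd := A.2
  rw [det_fin_two] at hd
  have h4 : A.1 0 0 = A.1 1 1 := by linear_combination h3
  rw [h1, h2, h4] at hd
  have h5 : (A.1 1 1 - 1) * (A.1 1 1 + 1) = 0 := by linear_combination hd
  apply hA
  rw [mem_center_SL2_iff]
  rcases mul_eq_zero.1 h5 with h | h
  · left
    ext i j
    fin_cases i <;> fin_cases j
    · simpa only [_root_.Fin.zero_eta, _root_.Fin.isValue, _root_.Matrix.SpecialLinearGroup.coe_one, _root_.Matrix.one_apply_eq] using (by linear_combination h3 + h : A.1 0 0 = 1)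
    · simpa only [_root_.Fin.zero_eta, _root_.Fin.isValue, _root_.Fin.mk_one, _root_.Matrix.SpecialLinearGroup.coe_one, _root_.Nat.reduceAdd, _root_.ne_eq, _root_.zero_ne_one, _root_.not_false_eq_true, _root_.Matrix.one_apply_ne] using h1
    · simpa only [_root_.Fin.mk_one, _root_.Fin.isValue, _root_.Fin.zero_eta, _root_.Matrix.SpecialLinearGroup.coe_one, _root_.Nat.reduceAdd, _root_.ne_eq, _root_.one_ne_zero, _root_.not_false_eq_true, _root_.Matrix.one_apply_ne] using h2
    · simpa only [_root_.Fin.mk_one, _root_.Fin.isValue, _root_.Matrix.SpecialLinearGroup.coe_one, _root_.Matrix.one_apply_eq] using (by linear_combination h : A.1 1 1 = 1)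
  · right
    ext i j
    fin_cases i <;> fin_cases j
    · simpa only [_root_.Fin.zero_eta, _root_.Fin.isValue, _root_.Matrix.SpecialLinearGroup.coe_neg, _root_.Matrix.SpecialLinearGroup.coe_one, _root_.Matrix.neg_apply, _root_.Matrix.one_apply_eq] using (by linear_combination h3 + h : A.1 0 0 = -1)
    · simpa using h1
    · simpa using h2
    · simpa only [_root_.Fin.mk_one, _root_.Fin.isValue, _root_.Matrix.SpecialLinearGroup.coe_neg, _root_.Matrix.SpecialLinearGroup.coe_one, _root_.Matrix.neg_apply, _root_.Matrix.one_apply_eq] using (by linear_combination h : A.1 1 1 = -1)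

/-- the commutant of a non-scalar matrix -/
theorem exists_coeff {A B : Matrix (Fin 2) (Fin 2) F} (hA : A 0 1 ≠ 0 ∨ A 1 0 ≠ 0 ∨ A 0 0 - A 1 1 ≠ 0)
    (h : B * A = A * B) : ∃ a b : F, B = a • (1 : Matrix (Fin 2) (Fin 2) F) + b • A := by
  have h00 := congrFun (congrFun h 0) 0
  have h01 := congrFun (congrFun h 0) 1
  have h10 := congrFun (congrFun h 1) 0
  simp only [mul_apply, Fin.sum_univ_two] at h00 h01 h10
  have main : ∀ b : F, B 0 1 = b * A 0 1 → B 1 0 = b * A 1 0 → B 0 0 - B 1 1 = b * (A 0 0 - A 1 1) →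
      ∃ a b : F, B = a • (1 : Matrix (Fin 2) (Fin 2) F) + b • A := by
    intro b h1 h2 h3
    refine ⟨B 0 0 - b * A 0 0, b, ?_⟩
    ext i j
    fin_cases i <;> fin_cases j
    · simp
    · simpa using h1
    · simpa using h2
    · simpa only [_root_.Fin.mk_one, _root_.Fin.isValue, _root_.Matrix.add_apply, _root_.Matrix.smul_apply, _root_.Matrix.one_apply_eq, _root_.smul_eq_mul, _root_.mul_one] using (by linear_combination -h3 : B 1 1 = B 0 0 - b * A 0 0 + b * A 1 1)
  rcases hA with h1 | h1 | h1
  · refine main (B 0 1 / A 0 1) (by field_simp) ?_ ?_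
    · field_simp
      linear_combination -h00
    · field_simp
      linear_combination h01
  · refine main (B 1 0 / A 1 0) ?_ (by field_simp) ?_
    · field_simp
      linear_combination h00
    · field_simp
      linear_combination -h10
  · refine main ((B 0 0 - B 1 1) / (A 0 0 - A 1 1)) ?_ ?_ (by field_simp)
    · field_simp
      linear_combination -h01
    · field_simp
      linear_combination h10

/-- the conic -/
abbrev Conic (F : Type*) [Field F] (t : F) : Type _ := {p : F × F // p.1 ^ 2 + t * p.1 * p.2 + p.2 ^ 2 = 1}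

theorem det_coeff {A : SpecialLinearGroup (Fin 2) F} (a b : F) :
    (a • (1 : Matrix (Fin 2) (Fin 2) F) + b • A.1).det = a ^ 2 + A.1.trace * a * b + b ^ 2 := by
  have hd := A.2
  rw [det_fin_two] at hd
  rw [det_fin_two, trace_fin_two]
  simp only [_root_.Fin.isValue, _root_.Matrix.add_apply, _root_.Matrix.smul_apply, _root_.Matrix.one_apply_eq, _root_.smul_eq_mul, _root_.mul_one, _root_.ne_eq, _root_.zero_ne_one, _root_.not_false_eq_true, _root_.Matrix.one_apply_ne, _root_.MulZeroClass.mul_zero, _root_.zero_add, _root_.one_ne_zero]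
  linear_combination b ^ 2 * hd

theorem card_SL2_centralizer {A : SpecialLinearGroup (Fin 2) F}
    (hA : A ∉ center (SpecialLinearGroup (Fin 2) F)) :
    Nat.card (centralizer ({A} : Set (SpecialLinearGroup (Fin 2) F))) = Nat.card (Conic F A.1.trace) := by
  symm
  let f : Conic F A.1.trace → centralizer ({A} : Set (SpecialLinearGroup (Fin 2) F)) := fun p =>
    ⟨⟨p.1.1 • (1 : Matrix (Fin 2) (Fin 2) F) + p.1.2 • A.1, by rw [det_coeff]; exact p.2⟩, by
      refine mem_centralizer_singleton_iff.mpr (Subtype.ext ?_)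
      change (p.1.1 • (1 : Matrix (Fin 2) (Fin 2) F) + p.1.2 • A.1) * A.1 =
        A.1 * (p.1.1 • (1 : Matrix (Fin 2) (Fin 2) F) + p.1.2 • A.1)
      rw [add_mul, mul_add]
      simp only [_root_.Algebra.smul_mul_assoc, _root_.one_mul, _root_.Algebra.mul_smul_comm, _root_.mul_one]⟩
  refine Nat.card_congr (Equiv.ofBijective f ⟨?_, ?_⟩)
  · rintro ⟨⟨a, b⟩, h1⟩ ⟨⟨a', b'⟩, h2⟩ h
    have h3 : (a • (1 : Matrix (Fin 2) (Fin 2) F) + b • A.1) = (a' • (1 : Matrix (Fin 2) (Fin 2) F) + b' • A.1) :=
      congrArg (fun x : centralizer ({A} : Set (SpecialLinearGroup (Fin 2) F)) => x.1.1) h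
    have h00 := congrFun (congrFun h3 0) 0
    have h01 := congrFun (congrFun h3 0) 1
    have h10 := congrFun (congrFun h3 1) 0
    have h11 := congrFun (congrFun h3 1) 1
    simp only [_root_.Fin.isValue, _root_.Matrix.add_apply, _root_.Matrix.smul_apply, _root_.Matrix.one_apply_eq, _root_.smul_eq_mul, _root_.mul_one, _root_.ne_eq, _root_.zero_ne_one, _root_.not_false_eq_true, _root_.Matrix.one_apply_ne, _root_.MulZeroClass.mul_zero, _root_.zero_add, _root_.mul_eq_mul_right_iff, _root_.one_ne_zero] at h00 h01 h10 h11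
    have hb : b = b' := by
      rcases ns hA with h4 | h4 | h4
      · rcases h01 with h5 | h5
        · exact h5
        · exact absurd h5 h4
      · rcases h10 with h5 | h5
        · exact h5
        · exact absurd h5 h4
      · have : (b - b') * (A.1 0 0 - A.1 1 1) = 0 := by linear_combination h00 - h11
        rcases mul_eq_zero.1 this with h5 | h5
        · linear_combination h5
        · exact absurd h5 h4
    subst hb
    have ha : a = a' := by linear_combination h00
    subst ha
    rfl
  · rintro ⟨B, hB⟩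
    rw [mem_centralizer_singleton_iff] at hB
    obtain ⟨a, b, hab⟩ := exists_coeff (ns hA) (congrArg Subtype.val hB : B.1 * A.1 = A.1 * B.1)
    refine ⟨⟨(a, b), ?_⟩, ?_⟩
    · have h := B.2
      rw [hab, det_coeff] at h
      exact h
    · apply Subtype.ext
      apply Subtype.ext
      exact hab.symm

section count

variable [Fintype F]

theorem conic_split {t s : F} (ht : t ^ 2 ≠ 4) (hs : s ^ 2 + t * s + 1 = 0) :
    Nat.card (Conic F t) = Fintype.card F - 1 := by
  have h := H307.Conic.card_conic t ht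
  have h2 : Nat.card {s : F // s ^ 2 + t * s + 1 = 0} = 2 := by
    rw [Nat.card_eq_two_iff]
    refine ⟨⟨s, hs⟩, ⟨-t - s, by linear_combination hs⟩, ?_, ?_⟩
    · intro h3
      have h4 : s = -t - s := congrArg Subtype.val h3
      apply ht
      linear_combination (t + 2 * s) * h4 - 4 * hs
    · ext ⟨r, hr⟩
      simp only [Set.mem_insert_iff, Set.mem_singleton_iff, Set.mem_univ, iff_true, Subtype.mk.injEq]
      have : (r - s) * (r - (-t - s)) = 0 := by linear_combination hr - hs
      rcases mul_eq_zero.1 this with h | h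
      · left; linear_combination h
      · right; linear_combination h
  change Nat.card (Conic F t) + _ = _ at h
  omega

theorem conic_nonsplit {t : F} (ht : t ^ 2 ≠ 4) (hs : ∀ s : F, s ^ 2 + t * s + 1 ≠ 0) :
    Nat.card (Conic F t) = Fintype.card F + 1 := by
  have h := H307.Conic.card_conic t ht
  have h2 : Nat.card {s : F // s ^ 2 + t * s + 1 = 0} = 0 := by
    have : IsEmpty {s : F // s ^ 2 + t * s + 1 = 0} := ⟨fun s => hs s.1 s.2⟩
    exact Nat.card_of_isEmpty
  change Nat.card (Conic F t) + _ = _ at h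
  omega

/-- the degenerate conic -/
theorem conic_degen {e : F} (he : e ^ 2 = 1) : Nat.card (Conic F (2 * e)) =
    Fintype.card F * Nat.card {a : F // a ^ 2 = 1} := by
  rw [← Nat.card_eq_fintype_card, ← Nat.card_prod]
  refine Nat.card_congr ⟨fun p => (p.1.2, ⟨p.1.1 + e * p.1.2, ?_⟩), fun p => ⟨(p.2.1 - e * p.1, p.1), ?_⟩, ?_, ?_⟩
  · linear_combination p.2 + p.1.2 ^ 2 * he
  · linear_combination p.2.2 - p.1 ^ 2 * he
  · rintro ⟨⟨a, b⟩, h⟩
    apply Subtype.ext
    simp
  · rintro ⟨a, b, h⟩
    simp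

omit [Fintype F] in
theorem card_sq_one_odd (h2 : (2 : F) ≠ 0) : Nat.card {a : F // a ^ 2 = 1} = 2 := by
  rw [Nat.card_eq_two_iff]
  refine ⟨⟨1, by simp⟩, ⟨-1, by simp only [_root_.even_two, _root_.Even.neg_pow, _root_.one_pow]⟩, ?_, ?_⟩
  · intro h
    have : (1 : F) = -1 := congrArg Subtype.val h
    apply h2
    linear_combination this
  · ext ⟨r, hr⟩
    simp only [Set.mem_insert_iff, Set.mem_singleton_iff, Set.mem_univ, iff_true, Subtype.mk.injEq]
    have : (r - 1) * (r + 1) = 0 := by linear_combination hr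
    rcases mul_eq_zero.1 this with h | h
    · left; linear_combination h
    · right; linear_combination h

omit [Fintype F] in
theorem card_sq_one_even (h2 : (2 : F) = 0) : Nat.card {a : F // a ^ 2 = 1} = 1 := by
  rw [Nat.card_eq_one_iff_unique]
  refine ⟨⟨?_⟩, ⟨⟨1, by simp⟩⟩⟩
  rintro ⟨a, ha⟩ ⟨b, hb⟩
  have : (a - b) ^ 2 = 0 := by linear_combination ha + hb + (1 - a * b) * h2
  exact Subtype.ext (sub_eq_zero.1 ((pow_eq_zero_iff (by norm_num)).1 this))

omit [Fintype F] in
/-- `t² = 4` means `t = ± 2` -/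
theorem exists_of_sq_four {t : F} (ht : t ^ 2 = 4) : ∃ e : F, e ^ 2 = 1 ∧ t = 2 * e := by
  have : (t - 2) * (t + 2) = 0 := by linear_combination ht
  rcases mul_eq_zero.1 this with h | h
  · exact ⟨1, by simp, by linear_combination h⟩
  · exact ⟨-1, by simp only [_root_.even_two, _root_.Even.neg_pow, _root_.one_pow], by linear_combination h⟩

/-- there are values outside the split traces -/
theorem exists_nonsplit (h3 : 3 < Fintype.card F) :
    ∃ t : F, t ≠ 0 ∧ t ^ 2 ≠ 4 ∧ ∀ s : F, s ^ 2 + t * s + 1 ≠ 0 := by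
  classical
  by_contra hcon
  push Not at hcon
  -- `S` = the `s` with `s ≠ 0`, `s² ≠ 1`
  let S : Finset F := Finset.univ.filter (fun s : F => s ≠ 0 ∧ s ^ 2 ≠ 1)
  let f : F → F := fun s => - (s + s⁻¹)
  let T : Finset F := Finset.univ.filter (fun t : F => t ≠ 0 ∧ t ^ 2 ≠ 4)
  have hTS : T ⊆ S.image f := by
    intro t ht
    simp only [T, Finset.mem_filter, Finset.mem_univ, true_and] at ht
    obtain ⟨s, hs⟩ := hcon t ht.1 ht.2
    have hs0 : s ≠ 0 := by
      rintro rfl
      simp at hs
    rw [Finset.mem_image]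
    refine ⟨s, ?_, ?_⟩
    · simp only [S, Finset.mem_filter, Finset.mem_univ, true_and]
      refine ⟨hs0, ?_⟩
      intro h1
      apply ht.2
      have h4 : s * (t + 2 * s) = 0 := by linear_combination hs + h1
      have h5 : t + 2 * s = 0 := (mul_eq_zero.1 h4).resolve_left hs0
      linear_combination (t - 2 * s) * h5 + 4 * h1
    · simp only [f]
      field_simp
      linear_combination -hs
  have hfib : 2 * (S.image f).card ≤ S.card := by
    apply Finset.mul_card_image_le_card
    intro b hb
    obtain ⟨s, hs, rfl⟩ := Finset.mem_image.mp hb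
    simp only [S, Finset.mem_filter, Finset.mem_univ, true_and] at hs
    have h1 : s ≠ s⁻¹ := by
      intro h
      apply hs.2
      rw [pow_two]
      nth_rewrite 2 [h]
      exact mul_inv_cancel₀ hs.1
    rw [← Finset.card_pair h1]
    apply Finset.card_le_card
    intro x hx
    simp only [Finset.mem_insert, Finset.mem_singleton] at hx
    simp only [S, Finset.mem_filter, Finset.mem_univ, true_and, f]
    rcases hx with rfl | rfl
    · exact ⟨hs, rfl⟩
    · refine ⟨⟨inv_ne_zero hs.1, ?_⟩, ?_⟩
      · rw [inv_pow]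
        intro h
        exact hs.2 (inv_eq_one.mp h)
      · rw [inv_inv, add_comm]
  have hc := Finset.card_le_card hTS
  generalize (S.image f).card = N at hc hfib
  by_cases h2 : (2 : F) = 0
  · have h4 : (4 : F) = 0 := by linear_combination 2 * h2
    have hT : T = Finset.univ.erase 0 := by
      ext x
      simp only [T, h4, _root_.ne_eq, _root_.OfNat.ofNat_ne_zero, _root_.not_false_eq_true, _root_.pow_eq_zero_iff, _root_.and_self, _root_.Finset.mem_filter, _root_.Finset.mem_univ, _root_.true_and, _root_.Finset.mem_erase, _root_.and_true]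
    have hS : S = (Finset.univ.erase 0).erase 1 := by
      ext x
      simp only [S, Finset.mem_filter, Finset.mem_univ, true_and, Finset.mem_erase, and_true, ne_eq]
      constructor
      · rintro ⟨h5, h6⟩
        refine ⟨?_, h5⟩
        rintro rfl
        exact h6 (by simp)
      · rintro ⟨h5, h6⟩
        refine ⟨h6, ?_⟩
        intro h7
        apply h5
        have : (x - 1) ^ 2 = 0 := by linear_combination h7 + (1 - x) * h2
        exact sub_eq_zero.1 ((pow_eq_zero_iff (by norm_num)).1 this)
    rw [hT, Finset.card_erase_of_mem (Finset.mem_univ _), Finset.card_univ] at hc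
    rw [hS, Finset.card_erase_of_mem (by simp only [_root_.Finset.mem_erase, _root_.ne_eq, _root_.one_ne_zero, _root_.not_false_eq_true, _root_.Finset.mem_univ, _root_.and_self]), Finset.card_erase_of_mem (Finset.mem_univ _),
      Finset.card_univ] at hfib
    omega
  · have h4 : (4 : F) ≠ 0 := by
      intro h
      apply h2
      have : (2 : F) ^ 2 = 0 := by linear_combination h
      exact (pow_eq_zero_iff (by norm_num)).1 this
    have h22 : (2 : F) ≠ -2 := by
      intro h
      apply h4
      linear_combination h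
    have h11 : (1 : F) ≠ -1 := by
      intro h
      apply h2
      linear_combination h
    have hT : T = ((Finset.univ.erase 0).erase 2).erase (-2) := by
      ext x
      simp only [T, Finset.mem_filter, Finset.mem_univ, true_and, Finset.mem_erase, and_true, ne_eq]
      constructor
      · rintro ⟨h5, h6⟩
        refine ⟨?_, ?_, h5⟩
        · rintro rfl
          exact h6 (by norm_num)
        · rintro rfl
          exact h6 (by norm_num)
      · rintro ⟨h5, h6, h7⟩
        refine ⟨h7, ?_⟩
        intro h8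
        have : (x - 2) * (x + 2) = 0 := by linear_combination h8
        rcases mul_eq_zero.1 this with h9 | h9
        · exact h6 (by linear_combination h9)
        · exact h5 (by linear_combination h9)
    have hS : S = ((Finset.univ.erase 0).erase 1).erase (-1) := by
      ext x
      simp only [S, Finset.mem_filter, Finset.mem_univ, true_and, Finset.mem_erase, and_true, ne_eq]
      constructor
      · rintro ⟨h5, h6⟩
        refine ⟨?_, ?_, h5⟩
        · rintro rfl
          exact h6 (by norm_num)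
        · rintro rfl
          exact h6 (by norm_num)
      · rintro ⟨h5, h6, h7⟩
        refine ⟨h7, ?_⟩
        intro h8
        have : (x - 1) * (x + 1) = 0 := by linear_combination h8
        rcases mul_eq_zero.1 this with h9 | h9
        · exact h6 (by linear_combination h9)
        · exact h5 (by linear_combination h9)
    rw [hT, Finset.card_erase_of_mem (by simp only [h22.symm, h2, _root_.Finset.mem_erase, _root_.ne_eq, _root_.not_false_eq_true, _root_.neg_eq_zero, _root_.Finset.mem_univ, _root_.and_self]), Finset.card_erase_of_mem (by simp [h2]),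
      Finset.card_erase_of_mem (Finset.mem_univ _), Finset.card_univ] at hc
    rw [hS, Finset.card_erase_of_mem (by simp only [h11.symm, _root_.Finset.mem_erase, _root_.ne_eq, _root_.not_false_eq_true, _root_.neg_eq_zero, _root_.one_ne_zero, _root_.Finset.mem_univ, _root_.and_self]), Finset.card_erase_of_mem (by simp only [_root_.Finset.mem_erase, _root_.ne_eq, _root_.one_ne_zero, _root_.not_false_eq_true, _root_.Finset.mem_univ, _root_.and_self]),
      Finset.card_erase_of_mem (Finset.mem_univ _), Finset.card_univ] at hfib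
    omega

/-- there are split traces different from zero -/
theorem exists_split (h : Fintype.card F = 4 ∨ 5 < Fintype.card F) :
    ∃ t s : F, t ≠ 0 ∧ t ^ 2 ≠ 4 ∧ s ^ 2 + t * s + 1 = 0 := by
  classical
  -- we need `s ≠ 0`, `s² ≠ ± 1`
  suffices ∃ s : F, s ≠ 0 ∧ s ^ 2 ≠ 1 ∧ s ^ 2 ≠ -1 by
    obtain ⟨s, h1, h2, h3⟩ := this
    refine ⟨- (s + s⁻¹), s, ?_, ?_, ?_⟩
    · intro h4
      apply h3
      have h5 : s * (s + s⁻¹) = 0 := by linear_combination -s * h4
      rw [mul_add, mul_inv_cancel₀ h1] at h5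
      linear_combination h5
    · intro h4
      apply h2
      have h5 : s * s⁻¹ = 1 := mul_inv_cancel₀ h1
      have h6 : (s - s⁻¹) ^ 2 = 0 := by linear_combination h4 - 4 * h5
      have h7 : s - s⁻¹ = 0 := (pow_eq_zero_iff (by norm_num)).1 h6
      linear_combination s * h7 + h5
    · have h5 : s * s⁻¹ = 1 := mul_inv_cancel₀ h1
      linear_combination -h5
  by_contra hcon
  push Not at hcon
  have hsub : (Finset.univ : Finset F) ⊆ insert 0 ((Polynomial.X ^ 4 - 1 : Polynomial F).roots.toFinset) := by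
    intro s _
    rw [Finset.mem_insert]
    by_cases h1 : s = 0
    · exact Or.inl h1
    right
    rw [Multiset.mem_toFinset, Polynomial.mem_roots]
    · rw [Polynomial.IsRoot.def]
      simp only [Polynomial.eval_sub, Polynomial.eval_pow, Polynomial.eval_X, Polynomial.eval_one]
      by_cases h2 : s ^ 2 = 1
      · linear_combination (s ^ 2 + 1) * h2
      · linear_combination (s ^ 2 - 1) * hcon s h1 h2
    · exact Polynomial.X_pow_sub_C_ne_zero (by norm_num) 1
  have hc := Finset.card_le_card hsub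
  have hr : (Polynomial.X ^ 4 - 1 : Polynomial F).roots.toFinset.card ≤ 4 := by
    refine le_trans (Multiset.toFinset_card_le _) (le_trans (Polynomial.card_roots' _) ?_)
    exact (Polynomial.natDegree_X_pow_sub_C (n := 4) (r := (1 : F))).le
  have hi := Finset.card_insert_le (0 : F) (Polynomial.X ^ 4 - 1 : Polynomial F).roots.toFinset
  rw [Finset.card_univ] at hc
  rcases h with h | h
  · -- `q = 4`
    have h2 : (2 : F) = 0 := by
      by_contra h2
      have := (two_ne_zero_iff_odd F).1 h2
      rw [h] at this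
      exact absurd this (by decide)
    have hall : (Finset.univ : Finset F) ⊆ {0, 1} := by
      intro s _
      simp only [Finset.mem_insert, Finset.mem_singleton]
      by_cases h1 : s = 0
      · exact Or.inl h1
      right
      have h6 : s ^ 2 = 1 := by
        by_contra h7
        have := hcon s h1 h7
        apply h7
        linear_combination this - h2
      have : (s - 1) ^ 2 = 0 := by linear_combination h6 + (1 - s) * h2
      exact sub_eq_zero.1 ((pow_eq_zero_iff (by norm_num)).1 this)
    have hc2 := Finset.card_le_card hall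
    rw [Finset.card_univ] at hc2
    have := Finset.card_le_two (a := (0 : F)) (b := 1)
    omega
  · omega

/-- the centralizer orders in `SL₂` -/
theorem conic_cases (t : F) : (t ^ 2 = 4 ∧ Nat.card (Conic F t) = Fintype.card F * Nat.card {a : F // a ^ 2 = 1}) ∨
    (t ^ 2 ≠ 4 ∧ (Nat.card (Conic F t) = Fintype.card F - 1 ∨ Nat.card (Conic F t) = Fintype.card F + 1)) := by
  by_cases ht : t ^ 2 = 4
  · left
    obtain ⟨e, he, rfl⟩ := exists_of_sq_four ht
    exact ⟨ht, conic_degen he⟩
  · right
    refine ⟨ht, ?_⟩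
    by_cases hs : ∃ s : F, s ^ 2 + t * s + 1 = 0
    · obtain ⟨s, hs⟩ := hs
      exact Or.inl (conic_split ht hs)
    · push Not at hs
      exact Or.inr (conic_nonsplit ht hs)

end count

/-- a matrix with given trace -/
def comp (t : F) : SpecialLinearGroup (Fin 2) F := ⟨!![t, -1; 1, 0], by simp [det_fin_two]⟩

theorem comp_trace (t : F) : (comp t).1.trace = t := by
  simp [comp, trace_fin_two]

theorem comp_notMem (t : F) : comp t ∉ center (SpecialLinearGroup (Fin 2) F) := by
  rw [mem_center_SL2_iff]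
  rintro (h | h)
  · have := congrFun (congrFun (congrArg Subtype.val h) 1) 0
    simp [comp] at this
  · have := congrFun (congrFun (congrArg Subtype.val h) 1) 0
    simp [comp] at this

/-! ### Even characteristic -/

theorem idx_SL2_even [Fintype F] (h2 : (2 : F) = 0) (h3 : 3 < Fintype.card F) :
    idx (SpecialLinearGroup (Fin 2) F) =
      {Fintype.card F ^ 2 - 1, Fintype.card F * (Fintype.card F + 1), Fintype.card F * (Fintype.card F - 1)} := by
  obtain ⟨q, hq⟩ : ∃ q, Fintype.card F = q := ⟨_, rfl⟩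
  obtain ⟨r, rfl⟩ : ∃ r, q = r + 4 := ⟨q - 4, by omega⟩
  have hone := card_sq_one_even h2
  have hcard := card_SL2 F
  have hodd : r + 4 ≠ 5 := by
    intro h
    apply (two_ne_zero_iff_odd F).2 _ h2
    rw [hq, h]
    decide
  have key : ∀ A : SpecialLinearGroup (Fin 2) F, A ∉ center (SpecialLinearGroup (Fin 2) F) →
      Nat.card (Conic F A.1.trace) * (centralizer ({A} : Set (SpecialLinearGroup (Fin 2) F))).index =
        (r + 4) * ((r + 4) ^ 2 - 1) := by
    intro A hA
    rw [← card_SL2_centralizer hA, card_mul_index, hcard, hq]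
  have e1 : (r + 4) ^ 2 - 1 = (r + 3) * (r + 5) := by
    rw [Nat.sub_eq_iff_eq_add (by nlinarith only [_root_.Nat.cast_nonneg (α := ℤ) (r)])]; ring
  have a1 : r + 4 - 1 = r + 3 := by omega
  rw [hq]
  rw [e1] at key ⊢
  rw [a1]
  have k1 : ∀ A : SpecialLinearGroup (Fin 2) F, A ∉ center (SpecialLinearGroup (Fin 2) F) →
      Nat.card (Conic F A.1.trace) = r + 4 →
      (centralizer ({A} : Set (SpecialLinearGroup (Fin 2) F))).index = (r + 3) * (r + 5) := by
    intro A hA h
    have := key A hA
    rw [h] at this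
    exact Nat.eq_of_mul_eq_mul_left (by omega) this
  have k2 : ∀ A : SpecialLinearGroup (Fin 2) F, A ∉ center (SpecialLinearGroup (Fin 2) F) →
      Nat.card (Conic F A.1.trace) = r + 3 →
      (centralizer ({A} : Set (SpecialLinearGroup (Fin 2) F))).index = (r + 4) * (r + 4 + 1) := by
    intro A hA h
    have := key A hA
    rw [h] at this
    apply Nat.eq_of_mul_eq_mul_left (show 0 < r + 3 by omega)
    rw [this]; ring
  have k3 : ∀ A : SpecialLinearGroup (Fin 2) F, A ∉ center (SpecialLinearGroup (Fin 2) F) →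
      Nat.card (Conic F A.1.trace) = r + 5 →
      (centralizer ({A} : Set (SpecialLinearGroup (Fin 2) F))).index = (r + 4) * (r + 3) := by
    intro A hA h
    have := key A hA
    rw [h] at this
    apply Nat.eq_of_mul_eq_mul_left (show 0 < r + 5 by omega)
    rw [this]; ring
  ext m
  simp only [Set.mem_insert_iff, Set.mem_singleton_iff]
  constructor
  · rintro ⟨A, hA, rfl⟩
    rcases conic_cases A.1.trace with ⟨-, h⟩ | ⟨-, h | h⟩
    · rw [hone, hq, mul_one] at h
      exact Or.inl (k1 A hA h)
    · rw [hq] at h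
      exact Or.inr (Or.inl (k2 A hA h))
    · rw [hq] at h
      exact Or.inr (Or.inr (k3 A hA h))
  · rintro (rfl | rfl | rfl)
    · refine ⟨comp 0, comp_notMem 0, ?_⟩
      rw [k1 _ (comp_notMem 0)]
      rw [comp_trace]
      have := conic_degen (e := (0 : F) + 1) (by simp)
      rw [h2, zero_mul, hone, mul_one, hq] at this
      exact this
    · obtain ⟨t, s, h4, h5, h6⟩ := exists_split (F := F) (by rw [hq]; omega)
      refine ⟨comp t, comp_notMem t, ?_⟩
      rw [k2 _ (comp_notMem t)]
      rw [comp_trace, conic_split h5 h6, hq]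
      omega
    · obtain ⟨t, h4, h5, h6⟩ := exists_nonsplit (F := F) h3
      refine ⟨comp t, comp_notMem t, ?_⟩
      rw [k3 _ (comp_notMem t)]
      rw [comp_trace, conic_nonsplit h5 h6, hq]

/-! ### Odd characteristic -/

/-- the preimage of the centralizer -/
def pre (A : SpecialLinearGroup (Fin 2) F) : Subgroup (SpecialLinearGroup (Fin 2) F) :=
  (centralizer ({QuotientGroup.mk' (center (SpecialLinearGroup (Fin 2) F)) A} :
    Set (ProjectiveSpecialLinearGroup (Fin 2) F))).comap (QuotientGroup.mk' (center (SpecialLinearGroup (Fin 2) F)))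

theorem index_pre (A : SpecialLinearGroup (Fin 2) F) : (pre A).index =
    (centralizer ({QuotientGroup.mk' (center (SpecialLinearGroup (Fin 2) F)) A} :
    Set (ProjectiveSpecialLinearGroup (Fin 2) F))).index :=
  index_comap_of_surjective _ (QuotientGroup.mk'_surjective _)

theorem mem_pre {A B : SpecialLinearGroup (Fin 2) F} : B ∈ pre A ↔ B * A = A * B ∨ B * A = - (A * B) := by
  rw [pre, mem_comap, mem_centralizer_singleton_iff, ← map_mul, ← map_mul]
  rw [eq_comm, QuotientGroup.mk'_apply, QuotientGroup.mk'_apply, QuotientGroup.eq, mem_center_SL2_iff]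
  constructor
  · rintro (h | h)
    · left
      exact (inv_mul_eq_one.mp h).symm
    · right
      rw [inv_mul_eq_iff_eq_mul] at h
      rw [h]; simp
  · rintro (h | h)
    · left
      rw [h, inv_mul_cancel]
    · right
      rw [h]; simp

theorem centralizer_le_pre (A : SpecialLinearGroup (Fin 2) F) :
    centralizer ({A} : Set (SpecialLinearGroup (Fin 2) F)) ≤ pre A := by
  intro B hB
  rw [mem_centralizer_singleton_iff] at hB
  exact mem_pre.mpr (Or.inl hB)

/-- no anticommuting matrices for non-zero trace -/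
theorem trace_zero (h2 : (2 : F) ≠ 0) {A B : SpecialLinearGroup (Fin 2) F} (h : B * A = - (A * B)) :
    A.1.trace = 0 := by
  have h1 : B.1 * A.1 = - (A.1 * B.1) := by
    have := congrArg Subtype.val h
    simpa only [_root_.Matrix.SpecialLinearGroup.coe_mul, _root_.Matrix.SpecialLinearGroup.coe_neg] using this
  have h3 : B.1 * B.1.adjugate = 1 := by rw [mul_adjugate, B.2, one_smul]
  have h4 : A.1.trace = - A.1.trace := by
    calc A.1.trace = ((A.1 * B.1) * B.1.adjugate).trace := by rw [mul_assoc, h3, mul_one]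
      _ = (- (B.1 * A.1) * B.1.adjugate).trace := by rw [h1, neg_neg]
      _ = - (B.1 * A.1 * B.1.adjugate).trace := by rw [neg_mul, trace_neg]
      _ = - (B.1.adjugate * (B.1 * A.1)).trace := by rw [trace_mul_comm]
      _ = - A.1.trace := by rw [← mul_assoc, adjugate_mul, B.2, one_smul, one_mul]
  have h5 : 2 * A.1.trace = 0 := by linear_combination h4
  exact (mul_eq_zero.1 h5).resolve_left h2

theorem index_eq_of_not {A : SpecialLinearGroup (Fin 2) F}
    (h : ¬ ∃ B : SpecialLinearGroup (Fin 2) F, B * A = - (A * B)) :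
    (centralizer ({A} : Set (SpecialLinearGroup (Fin 2) F))).index =
    (centralizer ({QuotientGroup.mk' (center (SpecialLinearGroup (Fin 2) F)) A} :
    Set (ProjectiveSpecialLinearGroup (Fin 2) F))).index := by
  rw [← index_pre]
  congr 1
  apply le_antisymm (centralizer_le_pre A)
  intro B hB
  rw [mem_centralizer_singleton_iff]
  rcases mem_pre.mp hB with h1 | h1
  · exact h1
  · exact absurd ⟨B, h1⟩ h

theorem index_eq_of_exists (h2 : (2 : F) ≠ 0) {A B : SpecialLinearGroup (Fin 2) F}
    (h : B * A = - (A * B)) :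
    (centralizer ({A} : Set (SpecialLinearGroup (Fin 2) F))).index = 2 *
    (centralizer ({QuotientGroup.mk' (center (SpecialLinearGroup (Fin 2) F)) A} :
    Set (ProjectiveSpecialLinearGroup (Fin 2) F))).index := by
  have hne : ∀ X : SpecialLinearGroup (Fin 2) F, X ≠ - X := by
    intro X hX
    apply neg_one_ne_one_SL2 h2
    have : X⁻¹ * X = X⁻¹ * (- X) := by rw [← hX]
    rw [mul_neg, inv_mul_cancel] at this
    exact this.symm
  rw [← index_pre, ← relIndex_mul_index (centralizer_le_pre A)]
  congr 1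
  rw [relIndex, index_eq_two_iff]
  refine ⟨⟨B, mem_pre.mpr (Or.inr h)⟩, ?_⟩
  rintro ⟨X, hX⟩
  simp only [mem_subgroupOf, mem_centralizer_singleton_iff, coe_mul]
  rcases mem_pre.mp hX with h1 | h1
  · right
    refine ⟨h1, ?_⟩
    intro h3
    rw [mul_assoc, h, mul_neg, ← mul_assoc, h1, mul_assoc] at h3
    exact hne _ h3.symm
  · left
    refine ⟨?_, ?_⟩
    · rw [mul_assoc, h, mul_neg, ← mul_assoc, h1, neg_mul, neg_neg, mul_assoc]
    · intro h3
      rw [h1] at h3
      exact hne _ h3.symm

theorem exists_anti [Fintype F] (hodd : Odd (Fintype.card F)) :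
    ∃ B : SpecialLinearGroup (Fin 2) F, B * comp 0 = - (comp 0 * B) := by
  obtain ⟨x, y, hxy⟩ : ∃ x y : F, x ^ 2 + (y ^ 2 + 1) = 0 := by
    obtain ⟨x, y, h⟩ := FiniteField.exists_root_sum_quadratic (R := F) (f := Polynomial.X ^ 2)
      (g := Polynomial.X ^ 2 + Polynomial.C 1) (Polynomial.degree_X_pow 2)
      (Polynomial.degree_X_pow_add_C (by norm_num) 1) (Nat.odd_iff.mp hodd)
    exact ⟨x, y, by simpa only [_root_.Polynomial.eval_pow, _root_.Polynomial.eval_X, _root_.map_one, _root_.Polynomial.eval_add, _root_.Polynomial.eval_one] using h⟩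
  refine ⟨⟨!![x, y; y, -x], ?_⟩, ?_⟩
  · rw [det_fin_two_of]
    linear_combination -hxy
  · apply Subtype.ext
    change (!![x, y; y, -x] * !![0, -1; 1, 0] : Matrix (Fin 2) (Fin 2) F) = - (!![0, -1; 1, 0] * !![x, y; y, -x])
    ext i j
    (revert i j; simp only [_root_.Fin.forall_fin_succ, _root_.Matrix.cons_mul, _root_.Nat.succ_eq_add_one, Nat.reduceAdd, _root_.Matrix.vecMul_cons, _root_.Matrix.head_cons, _root_.Matrix.smul_cons, _root_.smul_eq_mul, _root_.MulZeroClass.mul_zero, _root_.mul_neg, _root_.mul_one, _root_.Matrix.smul_empty, _root_.Matrix.tail_cons, _root_.Matrix.empty_vecMul, _root_.add_zero, _root_.Matrix.add_cons, _root_.zero_add, _root_.Matrix.empty_add_empty, _root_.neg_smul, _root_.Matrix.neg_cons, _root_.neg_zero, _root_.Matrix.neg_empty, _root_.Matrix.empty_mul, _root_.Equiv.symm_apply_apply, _root_.Matrix.of_apply, _root_.Matrix.cons_val', _root_.Matrix.cons_val_fin_one, _root_.zero_smul, _root_.one_smul, _root_.neg_neg, _root_.Matrix.neg_apply, Fin.isValue, _root_.Matrix.cons_val_zero,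 _root_.Matrix.cons_val_succ, _root_.forall_const, _root_.and_self, _root_.implies_true])

theorem idx_PSL2_odd [Fintype F] (hodd : Odd (Fintype.card F)) (h7 : 7 ≤ Fintype.card F) :
    (idx (ProjectiveSpecialLinearGroup (Fin 2) F)).ncard = 4 := by
  have h2 : (2 : F) ≠ 0 := (two_ne_zero_iff_odd F).2 hodd
  obtain ⟨k, hk⟩ := hodd
  obtain ⟨r, rfl⟩ : ∃ r, k = r + 3 := ⟨k - 3, by omega⟩
  have hq : Fintype.card F = 2 * r + 7 := by omega
  have htwo := card_sq_one_odd h2
  have hcard := card_SL2 F
  have e1 : (2 * r + 7) ^ 2 - 1 = (2 * r + 6) * (2 * r + 8) := by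
    rw [Nat.sub_eq_iff_eq_add (by nlinarith only [_root_.Nat.cast_nonneg (α := ℤ) (r)])]; ring
  have key : ∀ A : SpecialLinearGroup (Fin 2) F, A ∉ center (SpecialLinearGroup (Fin 2) F) →
      Nat.card (Conic F A.1.trace) * (centralizer ({A} : Set (SpecialLinearGroup (Fin 2) F))).index =
        (2 * r + 7) * ((2 * r + 6) * (2 * r + 8)) := by
    intro A hA
    rw [← card_SL2_centralizer hA, card_mul_index, hcard, hq, e1]
  -- the values of the index in `SL₂`
  have k1 : ∀ A : SpecialLinearGroup (Fin 2) F, A ∉ center (SpecialLinearGroup (Fin 2) F) →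
      Nat.card (Conic F A.1.trace) = (2 * r + 7) * 2 →
      (centralizer ({A} : Set (SpecialLinearGroup (Fin 2) F))).index = (r + 3) * (2 * r + 8) := by
    intro A hA h
    have := key A hA
    rw [h] at this
    apply Nat.eq_of_mul_eq_mul_left (show 0 < (2 * r + 7) * 2 by omega)
    rw [this]; ring
  have k2 : ∀ A : SpecialLinearGroup (Fin 2) F, A ∉ center (SpecialLinearGroup (Fin 2) F) →
      Nat.card (Conic F A.1.trace) = 2 * r + 6 →
      (centralizer ({A} : Set (SpecialLinearGroup (Fin 2) F))).index = 2 * ((2 * r + 7) * (r + 4)) := by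
    intro A hA h
    have := key A hA
    rw [h] at this
    apply Nat.eq_of_mul_eq_mul_left (show 0 < 2 * r + 6 by omega)
    rw [this]; ring
  have k3 : ∀ A : SpecialLinearGroup (Fin 2) F, A ∉ center (SpecialLinearGroup (Fin 2) F) →
      Nat.card (Conic F A.1.trace) = 2 * r + 8 →
      (centralizer ({A} : Set (SpecialLinearGroup (Fin 2) F))).index = 2 * ((2 * r + 7) * (r + 3)) := by
    intro A hA h
    have := key A hA
    rw [h] at this
    apply Nat.eq_of_mul_eq_mul_left (show 0 < 2 * r + 8 by omega)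
    rw [this]; ring
  -- the involutions
  obtain ⟨B, hB⟩ := exists_anti (F := F) ⟨_, hk⟩
  have hinv := index_eq_of_exists h2 hB
  obtain ⟨D, hD⟩ : ∃ D, (centralizer ({QuotientGroup.mk' (center (SpecialLinearGroup (Fin 2) F)) (comp (0 : F))} :
    Set (ProjectiveSpecialLinearGroup (Fin 2) F))).index = D := ⟨_, rfl⟩
  have h04 : (0 : F) ^ 2 ≠ 4 := by
    intro h
    apply h2
    have : (2 : F) ^ 2 = 0 := by linear_combination -h
    exact (pow_eq_zero_iff (by norm_num)).1 this
  rw [hD] at hinv
  have hDval : (Nat.card (Conic F (0 : F)) = 2 * r + 6 ∧ D = (2 * r + 7) * (r + 4)) ∨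
      (Nat.card (Conic F (0 : F)) = 2 * r + 8 ∧ D = (2 * r + 7) * (r + 3)) := by
    rcases conic_cases (0 : F) with ⟨h, -⟩ | ⟨-, h | h⟩
    · exact absurd h h04
    · left
      have h5 : Nat.card (Conic F (0 : F)) = 2 * r + 6 := by rw [h, hq]; omega
      have h6 := k2 (comp 0) (comp_notMem 0) (by rw [comp_trace]; exact h5)
      rw [hinv] at h6
      exact ⟨h5, by omega⟩
    · right
      have h5 : Nat.card (Conic F (0 : F)) = 2 * r + 8 := by rw [h, hq]
      have h6 := k3 (comp 0) (comp_notMem 0) (by rw [comp_trace]; exact h5)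
      rw [hinv] at h6
      exact ⟨h5, by omega⟩
  have hset : idx (ProjectiveSpecialLinearGroup (Fin 2) F) =
      {(r + 3) * (2 * r + 8), 2 * ((2 * r + 7) * (r + 4)), 2 * ((2 * r + 7) * (r + 3)), D} := by
    have hmem : ∀ A : SpecialLinearGroup (Fin 2) F, ∀ n : ℕ, n ≠ 1 →
        (centralizer ({QuotientGroup.mk' (center (SpecialLinearGroup (Fin 2) F)) A} :
    Set (ProjectiveSpecialLinearGroup (Fin 2) F))).index = n →
        n ∈ idx (ProjectiveSpecialLinearGroup (Fin 2) F) := by
      intro A n hn h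
      refine ⟨QuotientGroup.mk' (center (SpecialLinearGroup (Fin 2) F)) A, ?_, h.symm⟩
      intro h3
      apply hn
      rw [← h, index_eq_one, eq_top_iff]
      intro y _
      rw [mem_centralizer_singleton_iff]
      exact mem_center_iff.mp h3 y
    have hno : ∀ t : F, t ≠ 0 → ¬ ∃ B : SpecialLinearGroup (Fin 2) F, B * comp t = - (comp t * B) := by
      rintro t ht ⟨B, hB⟩
      apply ht
      have := trace_zero h2 hB
      rwa [comp_trace] at this
    ext m
    simp only [Set.mem_insert_iff, Set.mem_singleton_iff]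
    constructor
    · rintro ⟨x, hx, rfl⟩
      obtain ⟨A, rfl⟩ := QuotientGroup.mk'_surjective (center (SpecialLinearGroup (Fin 2) F)) x
      have hA : A ∉ center (SpecialLinearGroup (Fin 2) F) := by
        intro hA
        apply hx
        have : QuotientGroup.mk' (center (SpecialLinearGroup (Fin 2) F)) A = 1 := by
          rw [← MonoidHom.mem_ker, QuotientGroup.ker_mk']; exact hA
        rw [this]
        exact one_mem _
      by_cases hB : ∃ B : SpecialLinearGroup (Fin 2) F, B * A = - (A * B)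
      · obtain ⟨B, hB⟩ := hB
        have ht := trace_zero h2 hB
        have h5 := index_eq_of_exists h2 hB
        right; right; right
        rcases hDval with ⟨h6, h7⟩ | ⟨h6, h7⟩
        · have h8 := k2 A hA (by rw [ht]; exact h6)
          rw [h5] at h8
          omega
        · have h8 := k3 A hA (by rw [ht]; exact h6)
          rw [h5] at h8
          omega
      · rw [← index_eq_of_not hB]
        rcases conic_cases A.1.trace with ⟨-, h⟩ | ⟨-, h | h⟩
        · rw [htwo, hq] at h
          exact Or.inl (k1 A hA h)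
        · rw [hq] at h
          exact Or.inr (Or.inl (k2 A hA h))
        · rw [hq] at h
          exact Or.inr (Or.inr (Or.inl (k3 A hA h)))
    · rintro (rfl | rfl | rfl | rfl)
      · refine hmem (comp 2) _ ?_ ?_
        · nlinarith only []
        · rw [← index_eq_of_not (hno 2 h2), k1 _ (comp_notMem 2)]
          rw [comp_trace]
          have := conic_degen (F := F) (e := 1) (by simp)
          rw [mul_one, htwo, hq] at this
          exact this
      · obtain ⟨t, s, h4, h5, h6⟩ := exists_split (F := F) (by rw [hq]; omega)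
        refine hmem (comp t) _ ?_ ?_
        · linarith only [e1]
        · rw [← index_eq_of_not (hno t h4), k2 _ (comp_notMem t)]
          rw [comp_trace, conic_split h5 h6, hq]
          omega
      · obtain ⟨t, h4, h5, h6⟩ := exists_nonsplit (F := F) (by rw [hq]; omega)
        refine hmem (comp t) _ ?_ ?_
        · nlinarith only []
        · rw [← index_eq_of_not (hno t h4), k3 _ (comp_notMem t)]
          rw [comp_trace, conic_nonsplit h5 h6, hq]
      · refine hmem (comp 0) _ ?_ hD
        rintro rfl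
        rcases hDval with ⟨-, h⟩ | ⟨-, h⟩
        · linarith only [e1, h]
        · nlinarith only [h]
  rw [hset]
  have ha : (r + 3) * (2 * r + 8) = 2 * (r * r) + 14 * r + 24 := by ring
  have hb : 2 * ((2 * r + 7) * (r + 4)) = 4 * (r * r) + 30 * r + 56 := by ring
  have hc : 2 * ((2 * r + 7) * (r + 3)) = 4 * (r * r) + 26 * r + 42 := by ring
  have hd1 : (2 * r + 7) * (r + 4) = 2 * (r * r) + 15 * r + 28 := by ring
  have hd2 : (2 * r + 7) * (r + 3) = 2 * (r * r) + 13 * r + 21 := by ring
  rw [hd1, hd2] at hDval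
  rw [ha, hb, hc]
  have hlt : 0 ≤ r * r := Nat.zero_le _
  generalize r * r = s at *
  have hD2 : D = 2 * s + 15 * r + 28 ∨ D = 2 * s + 13 * r + 21 := by
    rcases hDval with h | h
    · exact Or.inl h.2
    · exact Or.inr h.2
  rw [Set.ncard_eq_toFinset_card']
  simp only [Set.toFinset_insert, Set.toFinset_singleton]
  rw [Finset.card_insert_of_notMem, Finset.card_insert_of_notMem, Finset.card_insert_of_notMem, Finset.card_singleton]
  · rw [Finset.mem_singleton]; (clear * - hD2; omega)
  · simp only [Finset.mem_insert, Finset.mem_singleton]; (clear * - hD2; omega)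
  · simp only [Finset.mem_insert, Finset.mem_singleton]
    rintro (h | h | h)
    · omega
    · omega
    · rcases hD2 with h8 | h8
      · omega
      · omega


theorem idx_PSL2_even [Fintype F] {m : ℕ} (hm : 2 ≤ m) (hF : Fintype.card F = 2 ^ m) :
    (idx (ProjectiveSpecialLinearGroup (Fin 2) F)).ncard = 3 := by
  have h4 : 4 ≤ Fintype.card F := by
    rw [hF]
    calc 4 = 2 ^ 2 := by norm_num
      _ ≤ 2 ^ m := Nat.pow_le_pow_right (by norm_num) hm
  have h2 : (2 : F) = 0 := by
    by_contra h
    have := (two_ne_zero_iff_odd F).1 h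
    rw [hF] at this
    exact (Nat.not_odd_iff_even.mpr ((Nat.even_pow.mpr ⟨even_two, by omega⟩))) this
  have hchar : CharP F 2 := CharTwo.of_one_ne_zero_of_two_eq_zero one_ne_zero h2
  rw [idx_congr (H426.psl2EvenEquiv F), idx_SL2_even h2 (by omega)]
  obtain ⟨r, hr⟩ : ∃ r, Fintype.card F = r + 4 := ⟨Fintype.card F - 4, by omega⟩
  rw [hr]
  have e1 : (r + 4) ^ 2 - 1 = r * r + 8 * r + 15 := by
    rw [Nat.sub_eq_iff_eq_add (by nlinarith only [_root_.Nat.cast_nonneg (α := ℤ) (r)])]; ring
  have e2 : (r + 4) * (r + 4 + 1) = r * r + 9 * r + 20 := by ring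
  have e3 : (r + 4) * (r + 4 - 1) = r * r + 7 * r + 12 := by
    have : r + 4 - 1 = r + 3 := by omega
    rw [this]; ring
  rw [e1, e2, e3]
  rw [Set.ncard_eq_toFinset_card']
  simp only [Set.toFinset_insert, Set.toFinset_singleton]
  rw [Finset.card_insert_of_notMem, Finset.card_insert_of_notMem, Finset.card_singleton]
  · rw [Finset.mem_singleton]; omega
  · simp only [Finset.mem_insert, Finset.mem_singleton]; omega

end Cfsg.Agent.H178.PSL2Idx
end

-- part: H178/CType/PSL2Ctr
section
/-!
# The class-size data of `PSL₂(q)`: the statements used for the groups of small conjugate type rank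
-/

set_option autoImplicit false

namespace Cfsg.Agent.H178.PSL2Idx

open Matrix Subgroup

theorem psl2_even {F : Type} [Field F] [Fintype F] (m : ℕ) (hm : 2 ≤ m) (hF : Fintype.card F = 2 ^ m) :
    Set.ncard {k : ℕ | ∃ x : ProjectiveSpecialLinearGroup (Fin 2) F, x ∉ Subgroup.center _ ∧
      k = (Subgroup.centralizer ({x} : Set (ProjectiveSpecialLinearGroup (Fin 2) F))).index} = 3 :=
  idx_PSL2_even hm hF

theorem psl2_odd {F : Type} [Field F] [Fintype F] (ho : Odd (Fintype.card F)) (h7 : 7 ≤ Fintype.card F) :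
    Set.ncard {k : ℕ | ∃ x : ProjectiveSpecialLinearGroup (Fin 2) F, x ∉ Subgroup.center _ ∧
      k = (Subgroup.centralizer ({x} : Set (ProjectiveSpecialLinearGroup (Fin 2) F))).index} = 4 :=
  idx_PSL2_odd ho h7

end Cfsg.Agent.H178.PSL2Idx
end

private theorem dce_21651668075c : _root_.True := by
  try have : _root_.True := by simp only [_root_.Cfsg.Agent.H805.LThreeFour.n5.eq_1]
  try have : _root_.True := by simp only [_root_.Cfsg.Agent.H805.LThreeFour.m2.eq_1]
  try have : _root_.True := by simp only [_root_.Cfsg.Agent.H805.LThreeFour.m5.eq_1]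
  try have : _root_.True := by simp only [_root_.Cfsg.Agent.H805.LThreeFour.X5.eq_1]
  try have : _root_.True := by simp only [_root_.Cfsg.Agent.H805.LThreeFour.X3.eq_1]
  try have : _root_.True := by simp only [_root_.Cfsg.Agent.H805.LThreeFour.W3.eq_1]
  try have : _root_.True := by simp only [_root_.Cfsg.Agent.H178.PSL2Idx.pre.eq_1]
  try have : _root_.True := by simp only [_root_.Cfsg.Agent.H178.PSL2Idx.comp.eq_1]
  try have : _root_.True := by simp only [_root_.Cfsg.Agent.H805.LThreeFour.X2.eq_1]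
  try have : _root_.True := by simp only [_root_.Cfsg.Agent.H805.LThreeFour.m7.eq_1]
  try have : _root_.True := by simp only [_root_.Cfsg.Agent.H805.LThreeFour.X1.eq_1]
  try have : _root_.True := by simp only [_root_.Cfsg.Agent.H805.LThreeFour.n7.eq_1]
  try have : _root_.True := by simp only [_root_.Cfsg.Agent.H805.LThreeFour.X7.eq_1]
  try have : _root_.True := by simp only [_root_.Cfsg.Agent.H805.LThreeFour.m1.eq_1]
  exact _root_.True.intro
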